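import Mathlib

/-!
# Commutators with prescribed determinants, block triangular factorisations
-/

set_option autoImplicit false
set_option linter.unusedSectionVars false

namespace CfsgLib.SLComm

open Module

universe u

variable {K : Type u} [Field K]
variable {V W : Type u} [AddCommGroup V] [Module K V] [AddCommGroup W] [Module K W]

/-- `A` is the commutator of endomorphisms with determinants `dx`, `dy`. -/
def CommD (A : End K V) (dx dy : K) : Prop :=
  ∃ X Y : End K V, LinearMap.det X = dx ∧ LinearMap.det Y = dy ∧ A * Y * X = X * Y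

theorem CommD.congr (e : V ≃ₗ[K] W) {A : End K V} {B : End K W} (h : ∀ x, e (A x) = B (e x))
    {dx dy : K} (hA : CommD A dx dy) : CommD B dx dy := by
  obtain ⟨X, Y, hX, hY, hXY⟩ := hA
  refine ⟨e.conj X, e.conj Y, ?_, ?_, ?_⟩
  · rw [LinearEquiv.conj_apply, LinearMap.comp_assoc, LinearMap.det_conj, hX]
  · rw [LinearEquiv.conj_apply, LinearMap.comp_assoc, LinearMap.det_conj, hY]
  · refine LinearMap.ext fun y => ?_
    have := congrArg e (LinearMap.congr_fun hXY (e.symm y))
    simp only [Module.End.mul_apply, h] at this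
    simp [LinearEquiv.conj_apply, this]

theorem CommD.congr' (e : W ≃ₗ[K] V) {A : End K V} {B : End K W} (h : ∀ x, e (B x) = A (e x))
    {dx dy : K} (hA : CommD A dx dy) : CommD B dx dy :=
  hA.congr e.symm fun x => e.injective (by simp [h])

variable [FiniteDimensional K V] [FiniteDimensional K W]

theorem CommD.prod {A : End K V} {B : End K W} {a b c d : K} (hA : CommD A a b) (hB : CommD B c d) :
    CommD (LinearMap.prodMap A B) (a * c) (b * d) := by
  obtain ⟨X, Y, hX, hY, hXY⟩ := hA
  obtain ⟨X', Y', hX', hY', hXY'⟩ := hB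
  refine ⟨LinearMap.prodMap X X', LinearMap.prodMap Y Y', ?_, ?_, ?_⟩
  · rw [LinearMap.det_prodMap, hX, hX']
  · rw [LinearMap.det_prodMap, hY, hY']
  · refine LinearMap.ext fun p => Prod.ext ?_ ?_
    · exact LinearMap.congr_fun hXY p.1
    · exact LinearMap.congr_fun hXY' p.2

/-- `(h, w) ↦ (a h + r w, b w)` -/
def upper (a : End K V) (r : W →ₗ[K] V) (b : End K W) : End K (V × W) :=
  (a ∘ₗ LinearMap.fst K V W + r ∘ₗ LinearMap.snd K V W).prod (b ∘ₗ LinearMap.snd K V W)

/-- `(h, w) ↦ (a h, t h + b w)` -/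
def lower (a : End K V) (t : V →ₗ[K] W) (b : End K W) : End K (V × W) :=
  (a ∘ₗ LinearMap.fst K V W).prod (t ∘ₗ LinearMap.fst K V W + b ∘ₗ LinearMap.snd K V W)

@[simp] theorem upper_apply (a : End K V) (r : W →ₗ[K] V) (b : End K W) (p : V × W) :
    upper a r b p = (a p.1 + r p.2, b p.2) := rfl

@[simp] theorem lower_apply (a : End K V) (t : V →ₗ[K] W) (b : End K W) (p : V × W) :
    lower a t b p = (a p.1, t p.1 + b p.2) := rfl

theorem det_upper (a : End K V) (r : W →ₗ[K] V) (b : End K W) :
    LinearMap.det (upper a r b) = LinearMap.det a * LinearMap.det b := by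
  classical
  let bv := Free.chooseBasis K V
  let bw := Free.chooseBasis K W
  have hM : LinearMap.toMatrix (bv.prod bw) (bv.prod bw) (upper a r b) =
      Matrix.fromBlocks (LinearMap.toMatrix bv bv a) (LinearMap.toMatrix bw bv r) 0
        (LinearMap.toMatrix bw bw b) := by
    ext (i | i) (j | j) <;> simp [LinearMap.toMatrix_apply]
  rw [← LinearMap.det_toMatrix (bv.prod bw), hM, Matrix.det_fromBlocks_zero₂₁, LinearMap.det_toMatrix,
    LinearMap.det_toMatrix]

theorem det_lower (a : End K V) (t : V →ₗ[K] W) (b : End K W) :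
    LinearMap.det (lower a t b) = LinearMap.det a * LinearMap.det b := by
  classical
  let bv := Free.chooseBasis K V
  let bw := Free.chooseBasis K W
  have hM : LinearMap.toMatrix (bv.prod bw) (bv.prod bw) (lower a t b) =
      Matrix.fromBlocks (LinearMap.toMatrix bv bv a) 0 (LinearMap.toMatrix bv bw t)
        (LinearMap.toMatrix bw bw b) := by
    ext (i | i) (j | j) <;> simp [LinearMap.toMatrix_apply]
  rw [← LinearMap.det_toMatrix (bv.prod bw), hM, Matrix.det_fromBlocks_zero₁₂, LinearMap.det_toMatrix,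
    LinearMap.det_toMatrix]

/-- No nonzero map intertwines `b` and `a`. -/
def NoHom (a : End K V) (b : End K W) : Prop := ∀ Z : W →ₗ[K] V, a ∘ₗ Z = Z ∘ₗ b → Z = 0

theorem NoHom.solve {a : End K V} {b : End K W} (h : NoHom a b) (r : W →ₗ[K] V) :
    ∃ Z : W →ₗ[K] V, Z ∘ₗ b - a ∘ₗ Z = r := by
  let f : (W →ₗ[K] V) →ₗ[K] (W →ₗ[K] V) := LinearMap.lcomp K V b - LinearMap.llcomp K W V V a
  have hf : Function.Injective f := by
    rw [injective_iff_map_eq_zero]
    intro Z hZ
    refine h Z (sub_eq_zero.1 ?_).symm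
    exact hZ
  exact LinearMap.injective_iff_surjective.1 hf r

theorem noHom_of_pow {a : End K V} {b : End K W} (c : K) {N : ℕ} (hb : (b - c • 1) ^ N = 0)
    (ha : IsUnit (a - c • 1)) : NoHom a b := by
  intro Z hZ
  have h1 : ∀ k : ℕ, ∀ x, ((a - c • 1) ^ k) (Z x) = Z (((b - c • 1) ^ k) x) := by
    intro k
    induction k with
    | zero => intro x; rfl
    | succ k ih =>
      intro x
      rw [pow_succ', pow_succ', Module.End.mul_apply, Module.End.mul_apply, ih]
      simpa using LinearMap.congr_fun hZ (((b - c • 1) ^ k) x)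
  refine LinearMap.ext fun x => ?_
  have h2 := h1 N x
  rw [hb, LinearMap.zero_apply, map_zero] at h2
  exact ((Module.End.isUnit_iff _).1 (ha.pow N)).1 (by rw [h2, LinearMap.zero_apply, map_zero])

theorem noHom_of_pow' {a : End K V} {b : End K W} (c : K) {N : ℕ} (ha : (a - c • 1) ^ N = 0)
    (hb : IsUnit (b - c • 1)) : NoHom a b := by
  intro Z hZ
  have h1 : ∀ k : ℕ, ∀ x, ((a - c • 1) ^ k) (Z x) = Z (((b - c • 1) ^ k) x) := by
    intro k
    induction k with
    | zero => intro x; rfl
    | succ k ih =>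
      intro x
      rw [pow_succ', pow_succ', Module.End.mul_apply, Module.End.mul_apply, ih]
      simpa using LinearMap.congr_fun hZ (((b - c • 1) ^ k) x)
  refine LinearMap.ext fun x => ?_
  obtain ⟨y, rfl⟩ := ((Module.End.isUnit_iff _).1 (hb.pow N)).2 x
  rw [← h1, ha]
  rfl

/-- The factors of a block factorisation are conjugate, one to the inverse of the other. -/
theorem glue_conj {B₁ C₁ P₁ : End K V} {B₀ C₀ P₀ : End K W} (R : W →ₗ[K] V) (T : V →ₗ[K] W)
    (h₁ : C₁ * P₁ * B₁ = P₁) (h₀ : C₀ * P₀ * B₀ = P₀) (hB : NoHom B₁ B₀) (hC : NoHom C₀ C₁) :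
    ∃ P : End K (V × W), lower C₁ T C₀ * P * upper B₁ R B₀ = P ∧
      LinearMap.det P = LinearMap.det P₁ * LinearMap.det P₀ := by
  obtain ⟨Zb, hZb⟩ := hB.solve R
  obtain ⟨Zc, hZc⟩ := hC.solve T
  refine ⟨lower (1 : End K V) Zc 1 * upper P₁ 0 P₀ * upper (1 : End K V) (-Zb) 1, ?_, ?_⟩
  · have e1 : lower C₁ T C₀ * lower (1 : End K V) Zc 1 = lower (1 : End K V) Zc 1 * upper C₁ 0 C₀ := by
      refine LinearMap.ext fun p => Prod.ext (by simp) ?_
      have := LinearMap.congr_fun hZc p.1
      simp at this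
      simp [← this]
      abel
    have e2 : upper (1 : End K V) (-Zb) 1 * upper B₁ R B₀ =
        upper B₁ 0 B₀ * upper (1 : End K V) (-Zb) 1 := by
      refine LinearMap.ext fun p => Prod.ext ?_ (by simp)
      have := LinearMap.congr_fun hZb p.2
      simp at this
      simp [← this]
      abel
    have e3 : upper C₁ 0 C₀ * upper P₁ 0 P₀ * upper B₁ 0 B₀ = upper P₁ 0 P₀ := by
      refine LinearMap.ext fun p => Prod.ext ?_ ?_
      · simpa using LinearMap.congr_fun h₁ p.1
      · simpa using LinearMap.congr_fun h₀ p.2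
    simp only [← mul_assoc]
    rw [e1, mul_assoc (_ * upper P₁ 0 P₀), e2, mul_assoc (lower _ _ _) (upper C₁ 0 C₀), ← mul_assoc,
      mul_assoc (lower _ _ _) (upper C₁ 0 C₀ * upper P₁ 0 P₀), e3]
  · simp [det_upper, det_lower]

/-- `B * C` is a commutator if `C` is conjugate to the inverse of `B`. -/
theorem commD_of_conj {A B C P : End K V} (hA : A = B * C) (hP : C * P * B = P) :
    CommD A (LinearMap.det B) (LinearMap.det P) :=
  ⟨B, P, rfl, rfl, by rw [hA, mul_assoc, mul_assoc, ← mul_assoc C, hP]⟩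

/-- Two regular unipotent endomorphisms are conjugate up to inversion. -/
theorem regular_conj {B C : End K V} {m : ℕ} (hV : finrank K V = m + 1)
    (hB0 : (B - 1) ^ (m + 1) = 0) (hC0 : (C - 1) ^ (m + 1) = 0)
    (hB : (B - 1) ^ m ≠ 0) (hC : (C - 1) ^ m ≠ 0) :
    ∃ P : End K V, C * P * B = P ∧ LinearMap.det P ≠ 0 := by
  have hbasis : ∀ N : End K V, N ^ (m + 1) = 0 → N ^ m ≠ 0 →
      ∃ b : Basis (Fin (m + 1)) K V, ∀ i : Fin (m + 1),
        N (b i) = if h : i.val + 1 < m + 1 then b ⟨i.val + 1, h⟩ else 0 := by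
    intro N h0 h1
    obtain ⟨z, hz⟩ : ∃ z, (N ^ m) z ≠ 0 := by
      by_contra h
      push Not at h
      exact h1 (LinearMap.ext h)
    have hli : LinearIndependent K fun i : Fin (m + 1) => (N ^ i.val) z := by
      rw [Fintype.linearIndependent_iff]
      intro g hg
      have key : ∀ d : ℕ, ∀ i : Fin (m + 1), i.val = d → g i = 0 := by
        intro d
        induction d using Nat.strongRecOn with
        | ind d ihd =>
          intro i hi
          have h2 := congrArg (N ^ (m - i.val)) hg
          rw [map_sum, map_zero, Finset.sum_eq_single i ?_ (fun h => absurd (Finset.mem_univ i) h)] at h2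
          · rw [map_smul, ← Module.End.mul_apply, ← pow_add, Nat.sub_add_cancel (by omega)] at h2
            exact (smul_eq_zero.1 h2).resolve_right hz
          · intro j _ hji
            rcases lt_or_gt_of_ne (fun e => hji (Fin.ext e) : j.val ≠ i.val) with hlt | hgt
            · rw [ihd j.val (by omega) j rfl, zero_smul, map_zero]
            · rw [map_smul, ← Module.End.mul_apply, ← pow_add,
                show m - i.val + j.val = (m + 1) + (m - i.val + j.val - (m + 1)) by omega, pow_add, h0,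
                zero_mul, LinearMap.zero_apply, smul_zero]
      exact fun i => key _ i rfl
    let b := basisOfLinearIndependentOfCardEqFinrank hli (by simp [hV])
    have hb : ∀ i, b i = (N ^ i.val) z := fun i => by simp [b]
    refine ⟨b, fun i => ?_⟩
    rw [hb, ← Module.End.mul_apply, ← pow_succ']
    split_ifs with h
    · rw [hb]
    · rw [show i.val + 1 = m + 1 by omega, h0]
      rfl
  have hCu : IsUnit C := by
    have := IsNilpotent.isUnit_one_add (r := C - 1) ⟨m + 1, hC0⟩
    rwa [add_sub_cancel] at this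
  obtain ⟨U, hU⟩ := hCu
  have hN' : (↑U⁻¹ : End K V) - 1 = -(↑U⁻¹ : End K V) * (C - 1) := by
    rw [← hU, neg_mul, mul_sub, U.inv_mul, mul_one]
    abel
  have hcomm : Commute (-(↑U⁻¹ : End K V)) (C - 1) := by
    rw [← hU]
    exact ((Commute.refl (U : End K V)).units_inv_left.sub_right (Commute.one_right _)).neg_left
  obtain ⟨b, hb⟩ := hbasis _ hB0 hB
  obtain ⟨b', hb'⟩ := hbasis ((↑U⁻¹ : End K V) - 1) (by rw [hN', hcomm.mul_pow, hC0, mul_zero])
    (by rw [hN', hcomm.mul_pow]; exact fun h => hC ((U⁻¹.isUnit.neg.pow m).mul_right_eq_zero.1 h))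
  let e := b.equiv b' (Equiv.refl _)
  refine ⟨e, ?_, (LinearMap.isUnit_det (e : End K V) ((Module.End.isUnit_iff _).2 e.bijective)).ne_zero⟩
  have key : (e : End K V) * (B - 1) = ((↑U⁻¹ : End K V) - 1) * e := by
    refine b.ext fun i => ?_
    simp only [Module.End.mul_apply]
    rw [hb, LinearEquiv.coe_coe, Basis.equiv_apply, Equiv.refl_apply, hb']
    split_ifs with h <;> simp [e]
  rw [mul_sub, sub_mul, mul_one, one_mul, sub_left_inj] at key
  rw [mul_assoc, key, ← mul_assoc, ← hU, U.mul_inv, one_mul]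

end CfsgLib.SLComm
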