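import Cfsg.Agent.Lib.SLComm.LU

/-!
# Splitting off a two dimensional block
-/

set_option autoImplicit false
set_option linter.unusedSectionVars false

namespace CfsgLib.SLComm

open Module

universe u

variable {K : Type u} [Field K] {V : Type u} [AddCommGroup V] [Module K V] [FiniteDimensional K V]

/-- The block `[[0, -1], [1, a]]`. -/
def blockM (a : K) : Matrix (Fin 2) (Fin 2) K := !![0, -1; 1, a]

/-- A factorisation of the block with conjugate-to-inverse factors without eigenvalue one. -/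
def Good2 (a dx : K) : Prop :=
  ∃ B C : Matrix (Fin 2) (Fin 2) K, B * C = blockM a ∧ B.det = dx ∧ (B - 1).det ≠ 0 ∧
    (C - 1).det ≠ 0 ∧ ∀ d : K, d ≠ 0 → ∃ P : Matrix (Fin 2) (Fin 2) K, C * P * B = P ∧ P.det = d

/-- The first and second standard vectors. -/
abbrev e0 : Fin 2 → K := ![1, 0]
abbrev e1 : Fin 2 → K := ![0, 1]

/-- Projection to `ker ψ` along `v`, `w`. -/
def proj2 (ψ : V →ₗ[K] (Fin 2 → K)) {v w : V} (hv : ψ v = e0) (hw : ψ w = e1) :
    V →ₗ[K] LinearMap.ker ψ :=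
  LinearMap.codRestrict _ (LinearMap.id - (LinearMap.proj 0 ∘ₗ ψ).smulRight v -
    (LinearMap.proj 1 ∘ₗ ψ).smulRight w) (fun x => by
      rw [LinearMap.mem_ker]
      ext i
      fin_cases i <;> simp [hv, hw, Matrix.vecHead, Matrix.vecTail])

theorem proj2_coe (ψ : V →ₗ[K] (Fin 2 → K)) {v w : V} (hv : ψ v = e0) (hw : ψ w = e1) (x : V) :
    (proj2 ψ hv hw x : V) = x - ψ x 0 • v - ψ x 1 • w := rfl

theorem proj2_ker (ψ : V →ₗ[K] (Fin 2 → K)) {v w : V} (hv : ψ v = e0) (hw : ψ w = e1)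
    (x : LinearMap.ker ψ) : proj2 ψ hv hw (x : V) = x :=
  Subtype.ext (by rw [proj2_coe, LinearMap.mem_ker.1 x.2]; simp)

/-- The Schur complement of the block. -/
def schur2 (A : End K V) (ψ : V →ₗ[K] (Fin 2 → K)) {v : V} (hv : ψ v = e0) (hw : ψ (A v) = e1) :
    End K (LinearMap.ker ψ) :=
  (proj2 ψ hv hw ∘ₗ A +
    (LinearMap.proj 0 ∘ₗ ψ ∘ₗ A).smulRight (proj2 ψ hv hw (A (A v)))) ∘ₗ (LinearMap.ker ψ).subtype

/-- The equivalence `ker ψ × K² ≃ V`. -/
def equiv2 (ψ : V →ₗ[K] (Fin 2 → K)) {v w : V} (hv : ψ v = e0) (hw : ψ w = e1) :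
    (LinearMap.ker ψ × (Fin 2 → K)) ≃ₗ[K] V :=
  LinearEquiv.ofLinearMap ((LinearMap.ker ψ).subtype ∘ₗ LinearMap.fst K _ _ +
      ((LinearMap.proj 0).smulRight v + (LinearMap.proj 1).smulRight w) ∘ₗ LinearMap.snd K _ _)
    ((proj2 ψ hv hw).prod ψ) (LinearMap.ext fun x => by simp [proj2_coe]) (LinearMap.ext fun p => by
      have h : ψ ((p.1 : V) + (p.2 0 • v + p.2 1 • w)) = p.2 := by
        ext i
        fin_cases i <;> simp [hv, hw, LinearMap.mem_ker.1 p.1.2]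
      refine Prod.ext (Subtype.ext ?_) h
      show (proj2 ψ hv hw _ : V) = _
      rw [proj2_coe]
      simp [h]
      abel)

theorem equiv2_apply (ψ : V →ₗ[K] (Fin 2 → K)) {v w : V} (hv : ψ v = e0) (hw : ψ w = e1)
    (p : LinearMap.ker ψ × (Fin 2 → K)) :
    equiv2 ψ hv hw p = (p.1 : V) + (p.2 0 • v + p.2 1 • w) := by
  simp [equiv2]

theorem trace_offdiag_l {H W : Type u} [AddCommGroup H] [Module K H] [FiniteDimensional K H]
    [AddCommGroup W] [Module K W] [FiniteDimensional K W] (f : W →ₗ[K] H) :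
    LinearMap.trace K (H × W) (LinearMap.inl K H W ∘ₗ (f ∘ₗ LinearMap.snd K H W)) = 0 := by
  rw [LinearMap.trace_comp_comm', LinearMap.comp_assoc, LinearMap.snd_comp_inl, LinearMap.comp_zero,
    map_zero]

theorem trace_offdiag_r {H W : Type u} [AddCommGroup H] [Module K H] [FiniteDimensional K H]
    [AddCommGroup W] [Module K W] [FiniteDimensional K W] (f : H →ₗ[K] W) :
    LinearMap.trace K (H × W) (LinearMap.inr K H W ∘ₗ (f ∘ₗ LinearMap.fst K H W)) = 0 := by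
  rw [LinearMap.trace_comp_comm', LinearMap.comp_assoc, LinearMap.fst_comp_inr, LinearMap.comp_zero,
    map_zero]

/-- The main block lemma. -/
theorem block_comm {A : End K V} (hdet : LinearMap.det A = 1) (ψ : V →ₗ[K] (Fin 2 → K)) {v : V}
    (hv : ψ v = e0) (hw : ψ (A v) = e1) (a : K) (h2 : ψ (A (A v)) = ![-1, a]) {m : ℕ}
    (hV : finrank K V = m + 3) (c : LinearMap.ker ψ)
    (hc : ∀ p : Submodule K (LinearMap.ker ψ), c ∈ p →
      (∀ x ∈ p, schur2 A ψ hv hw x ∈ p) → p = ⊤)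
    (htr : m = 0 ∨ ∃ u : ℕ → K, (∀ i, u i ≠ 0) ∧
      LinearMap.trace K V A + ψ (A (A (A v))) 0 = (m + 1 : ℕ) + ∑ i ∈ Finset.range m, u i)
    {dx : K} (hG : Good2 a dx) {dy : K} (hdy : dy ≠ 0) : CommD A dx dy := by
  set E := equiv2 ψ hv hw with hE
  set π := proj2 ψ hv hw with hπ
  set g : LinearMap.ker ψ := π (A (A v)) with hg
  set S := schur2 A ψ hv hw with hS
  let A11 : End K (LinearMap.ker ψ) := π ∘ₗ A ∘ₗ (LinearMap.ker ψ).subtype
  let A21 : LinearMap.ker ψ →ₗ[K] (Fin 2 → K) := ψ ∘ₗ A ∘ₗ (LinearMap.ker ψ).subtype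
  let A12 : (Fin 2 → K) →ₗ[K] LinearMap.ker ψ := (LinearMap.proj 1).smulRight g
  let Ml : End K (Fin 2 → K) := Matrix.toLin' (blockM a)
  let A' : End K (LinearMap.ker ψ × (Fin 2 → K)) :=
    (A11 ∘ₗ LinearMap.fst K _ _ + A12 ∘ₗ LinearMap.snd K _ _).prod
      (A21 ∘ₗ LinearMap.fst K _ _ + Ml ∘ₗ LinearMap.snd K _ _)
  have hψA : ∀ x, ψ (A x) = ψ (A (π x : V)) + ψ x 0 • e1 + ψ x 1 • ![-1, a] := by
    intro x
    ext i
    fin_cases i <;> simp [hπ, proj2_coe, hw, h2, Matrix.vecHead, Matrix.vecTail] <;> ring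
  have hπv : π (A v) = 0 := Subtype.ext (by simp [hπ, proj2_coe, hw])
  have hEA : ∀ p, E (A' p) = A (E p) := by
    intro p
    have hm : ∀ z : Fin 2 → K, Ml z = ![-z 1, z 0 + a * z 1] := by
      intro z
      ext i
      fin_cases i <;> simp [Ml, blockM, Matrix.toLin'_apply, Matrix.mulVec, dotProduct, Fin.sum_univ_two]
    apply E.symm.injective
    rw [LinearEquiv.symm_apply_apply, hE, equiv2_apply]
    refine Prod.ext ?_ ?_
    · show A11 p.1 + A12 p.2 = π _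
      simp [A11, A12, hπv, g, map_add, map_smul]
    · show A21 p.1 + Ml p.2 = ψ _
      rw [hm]
      simp only [map_add, map_smul, hw, h2]
      ext i
      fin_cases i <;> simp [A21] <;> ring
  -- the trace
  have htrA : LinearMap.trace K V A = LinearMap.trace K _ A11 + a := by
    have h1 : A = E.conj A' := LinearMap.ext fun x => by
      rw [LinearEquiv.conj_apply]
      simp [hEA]
    have h3 : A' = LinearMap.prodMap A11 Ml +
        (LinearMap.inl K _ _ ∘ₗ (A12 ∘ₗ LinearMap.snd K _ _) +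
          LinearMap.inr K _ _ ∘ₗ (A21 ∘ₗ LinearMap.fst K _ _)) :=
      LinearMap.ext fun p => Prod.ext (by simp [A']) (by simp [A']; abel)
    rw [h1, LinearMap.trace_conj', h3, map_add, map_add, LinearMap.trace_prodMap', trace_offdiag_l, trace_offdiag_r]
    simp [Ml, blockM, Matrix.trace_toLin'_eq, Matrix.trace, Fin.sum_univ_two]
  have htrS : LinearMap.trace K _ S = LinearMap.trace K V A + ψ (A (A (A v))) 0 := by
    have h3 : S = A11 + (LinearMap.proj 0 ∘ₗ A21).smulRight g := LinearMap.ext fun x => by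
      simp [hS, schur2, A11, A21, hg, hπ]
    rw [h3, map_add, LinearMap.trace_smulRight, htrA]
    have h4 := congrFun (hψA (A (A v))) 0
    rw [h4]
    simp [A21, h2, hg, Matrix.vecHead]
    ring
  obtain ⟨B₀, C₀, hBC, hdB, hB1, hC1, hP₀⟩ := hG
  have hdM : (blockM a).det = 1 := by simp [blockM, Matrix.det_fin_two]
  have hdC : B₀.det * C₀.det = 1 := by rw [← Matrix.det_mul, hBC, hdM]
  have hBi := Matrix.mul_nonsing_inv B₀ (IsUnit.of_mul_eq_one _ hdC)
  have hCi := Matrix.nonsing_inv_mul C₀ (IsUnit.of_mul_eq_one_right _ hdC)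
  set Bl : End K (Fin 2 → K) := Matrix.toLin' B₀ with hBl
  set Cl : End K (Fin 2 → K) := Matrix.toLin' C₀ with hCl
  let R : (Fin 2 → K) →ₗ[K] LinearMap.ker ψ := A12 ∘ₗ Matrix.toLin' C₀⁻¹
  let T : LinearMap.ker ψ →ₗ[K] (Fin 2 → K) := Matrix.toLin' B₀⁻¹ ∘ₗ A21
  have hRC : ∀ z, R (Cl z) = A12 z := fun z => by
    show A12 ((Matrix.toLin' C₀⁻¹ ∘ₗ Matrix.toLin' C₀) z) = _
    rw [← Matrix.toLin'_mul, hCi, Matrix.toLin'_one]
    rfl
  have hBT : ∀ x, Bl (T x) = A21 x := fun x => by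
    show Matrix.toLin' B₀ (Matrix.toLin' B₀⁻¹ (A21 x)) = _
    rw [← LinearMap.comp_apply, ← Matrix.toLin'_mul, hBi, Matrix.toLin'_one]
    rfl
  have hBlCl : ∀ z, Bl (Cl z) = Ml z := fun z => by
    rw [← LinearMap.comp_apply, hBl, hCl, ← Matrix.toLin'_mul, hBC]
  have hfac : ∀ B₁ C₁, S = B₁ * C₁ → A' = upper B₁ R Bl * lower C₁ T Cl := by
    intro B₁ C₁ h
    refine LinearMap.ext fun p => Prod.ext ?_ ?_
    · have hRT : R (T p.1) = -(A21 p.1 0) • g := by
        have hM1 : C₀⁻¹ * B₀⁻¹ = !![a, 1; -1, 0] := by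
          rw [← Matrix.mul_inv_rev, hBC]
          exact Matrix.inv_eq_right_inv (by simp [blockM, Matrix.mul_fin_two, Matrix.one_fin_two])
        show A12 (Matrix.toLin' C₀⁻¹ (Matrix.toLin' B₀⁻¹ (A21 p.1))) = _
        rw [← LinearMap.comp_apply (f := Matrix.toLin' C₀⁻¹), ← Matrix.toLin'_mul, hM1]
        simp [A12, Matrix.toLin'_apply, Matrix.mulVec, dotProduct, Fin.sum_univ_two]
      have h4 : B₁ (C₁ p.1) = A11 p.1 + A21 p.1 0 • g := by
        rw [← Module.End.mul_apply, ← h]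
        rfl
      show A11 p.1 + A12 p.2 = B₁ (C₁ p.1) + R (T p.1 + Cl p.2)
      rw [map_add, hRC, hRT, h4]
      module
    · show A21 p.1 + Ml p.2 = Bl (T p.1 + Cl p.2)
      rw [map_add, hBT, hBlCl]
  have hdS : LinearMap.det S = 1 := by
    have h1 : A = E.conj A' := LinearMap.ext fun x => by
      rw [LinearEquiv.conj_apply]
      simp [hEA]
    rw [h1, LinearEquiv.conj_apply, LinearMap.comp_assoc, LinearMap.det_conj,
      hfac 1 S (one_mul S).symm, map_mul, det_upper, det_lower, hBl, hCl, LinearMap.det_toLin',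
      LinearMap.det_toLin', map_one, one_mul] at hdet
    linear_combination hdet - (LinearMap.det S) * hdC
  have hH : finrank K (LinearMap.ker ψ) = m + 1 := by
    have := E.finrank_eq
    rw [Module.finrank_prod, Module.finrank_fin_fun] at this
    omega
  obtain ⟨B₁, C₁, hBC₁, hB0, hC0, hBn, hCn⟩ :=
    lu_split hH hdS hc (htr.imp id fun ⟨u, hu, h⟩ => ⟨u, hu, htrS.trans h⟩)
  obtain ⟨P₁, hP₁, hd₁⟩ := regular_conj hH hB0 hC0 hBn hCn
  obtain ⟨P₀, hP, hd₀⟩ := hP₀ (dy / LinearMap.det P₁) (div_ne_zero hdy hd₁)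
  have hu : ∀ X : Matrix (Fin 2) (Fin 2) K, (X - 1).det ≠ 0 →
      IsUnit (Matrix.toLin' X - (1 : K) • 1 : End K (Fin 2 → K)) := by
    intro X hX
    rw [LinearMap.isUnit_iff_isUnit_det, one_smul, Module.End.one_eq_id, ← Matrix.toLin'_one,
      ← map_sub, LinearMap.det_toLin']
    exact isUnit_iff_ne_zero.2 hX
  obtain ⟨P, hPeq, hPdet⟩ := glue_conj (P₁ := P₁) (P₀ := Matrix.toLin' P₀) R T hP₁
    (show Cl * Matrix.toLin' P₀ * Bl = Matrix.toLin' P₀ by
      rw [hCl, hBl, Module.End.mul_eq_comp, Module.End.mul_eq_comp, ← Matrix.toLin'_mul,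
        ← Matrix.toLin'_mul, hP])
    (noHom_of_pow' (1 : K) (by rw [one_smul]; exact hB0) (hu B₀ hB1))
    (noHom_of_pow (1 : K) (by rw [one_smul]; exact hC0) (hu C₀ hC1))
  have := commD_of_conj (hfac B₁ C₁ hBC₁) hPeq
  rw [det_upper, hPdet, det_of_unipotent ⟨_, hB0⟩, one_mul, hBl, LinearMap.det_toLin', hdB,
    LinearMap.det_toLin', hd₀, mul_div_cancel₀ _ hd₁] at this
  exact this.congr E hEA

end CfsgLib.SLComm
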