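import Cfsg.Agent.Lib.SLComm.Block

/-!
# Companion blocks
-/

set_option autoImplicit false
set_option linter.unusedSectionVars false

namespace CfsgLib.SLComm

open Module

universe u

/-- The companion matrix: `e i ↦ e (i + 1)`, the last vector maps to `c`. -/
def compM {K : Type u} [Semiring K] {m : ℕ} (c : Fin (m + 1) → K) :
    Matrix (Fin (m + 1)) (Fin (m + 1)) K :=
  Matrix.of fun i j => if j.val = m then c i else if i.val = j.val + 1 then 1 else 0

variable {K : Type u} [Field K]

/-- The companion endomorphism. -/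
noncomputable abbrev comp {m : ℕ} (c : Fin (m + 1) → K) : End K (Fin (m + 1) → K) :=
  Matrix.toLin' (compM c)

theorem comp_single {m : ℕ} (c : Fin (m + 1) → K) (i : ℕ) (hi : i < m) :
    comp c (Pi.single ⟨i, by omega⟩ 1) = Pi.single ⟨i + 1, by omega⟩ 1 := by
  ext j
  simp [comp, compM, Matrix.toLin'_apply, hi.ne, Pi.single_apply, Fin.ext_iff]

theorem comp_last {m : ℕ} (c : Fin (m + 1) → K) : comp c (Pi.single (Fin.last m) 1) = c := by
  ext j
  simp [comp, compM, Matrix.toLin'_apply]

theorem comp_pow {m : ℕ} (c : Fin (m + 1) → K) : ∀ (i : ℕ) (hi : i < m + 1),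
    ((comp c) ^ i) (Pi.single 0 1) = Pi.single ⟨i, hi⟩ 1
  | 0, _ => rfl
  | i + 1, hi => by
    rw [pow_succ', Module.End.mul_apply, comp_pow c i (by omega), comp_single c i (by omega)]

theorem comp_pow_top {m : ℕ} (c : Fin (m + 1) → K) : ((comp c) ^ (m + 1)) (Pi.single 0 1) = c := by
  rw [pow_succ', Module.End.mul_apply, comp_pow c m (by omega)]
  exact comp_last c

theorem det_comp {m : ℕ} (c : Fin (m + 1) → K) : LinearMap.det (comp c) = (-1) ^ m * c 0 := by
  rw [LinearMap.det_toLin', Matrix.det_succ_row_zero, Finset.sum_eq_single (Fin.last m) ?_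
    (fun h => absurd (Finset.mem_univ _) h)]
  · have h : (compM c).submatrix Fin.succ (Fin.last m).succAbove = 1 := by
      ext i j
      simp [compM, Fin.succAbove_last, Matrix.one_apply, Fin.ext_iff, j.isLt.ne]
    rw [h, Matrix.det_one]
    simp [compM]
  · intro j _ hj
    simp [compM, (Fin.val_lt_last hj).ne]

theorem trace_comp {m : ℕ} (c : Fin (m + 1) → K) :
    LinearMap.trace K _ (comp c) = c (Fin.last m) := by
  rw [Matrix.trace_toLin'_eq, Matrix.trace, Finset.sum_eq_single (Fin.last m) ?_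
    (fun h => absurd (Finset.mem_univ _) h)]
  · simp [compM]
  · intro j _ hj
    simp [compM, (Fin.val_lt_last hj).ne]

theorem comp_gen {m : ℕ} (c : Fin (m + 1) → K) {p : Submodule K (Fin (m + 1) → K)}
    (h0 : Pi.single 0 1 ∈ p) (hp : ∀ x ∈ p, comp c x ∈ p) : p = ⊤ := by
  have h : ∀ i, ((comp c) ^ i) (Pi.single 0 1) ∈ p := by
    intro i
    induction i with
    | zero => exact h0
    | succ i ih => rw [pow_succ', Module.End.mul_apply]; exact hp _ ih
  refine eq_top_iff.2 fun x _ => ?_
  rw [pi_eq_sum_univ' x]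
  exact Submodule.sum_mem _ fun i _ => Submodule.smul_mem _ _ (comp_pow c i.val i.isLt ▸ h i.val)

/-- `m` steps with nonzero parameters reach trace `s`. -/
def Ok (m : ℕ) (s : K) : Prop :=
  m = 0 ∨ ∃ u : ℕ → K, (∀ i, u i ≠ 0) ∧ s = (m + 1 : ℕ) + ∑ i ∈ Finset.range m, u i

/-- The values of the first functionals on the orbit basis. -/
def psiVal (a t : K) : ℕ → (Fin 2 → K)
  | 0 => e0
  | 1 => e1
  | 2 => ![-1, a]
  | 3 => ![t, 0]
  | _ => 0

/-- The functionals on a companion block. -/
def psi {m : ℕ} (a t : K) : (Fin (m + 1) → K) →ₗ[K] (Fin 2 → K) :=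
  ∑ i : Fin (m + 1), (LinearMap.proj i).smulRight (psiVal a t i.val)

theorem psi_single {m : ℕ} (a t : K) (i : Fin (m + 1)) :
    psi a t (Pi.single i 1) = psiVal a t i.val := by
  simp [psi, Pi.single_apply]

variable {V : Type u} [AddCommGroup V] [Module K V] [FiniteDimensional K V]

theorem schur2_proj (A : End K V) (ψ : V →ₗ[K] (Fin 2 → K)) {v : V} (hv : ψ v = e0) (hw : ψ (A v) = e1)
    (a : K) (h2 : ψ (A (A v)) = ![-1, a]) (x : V) :
    schur2 A ψ hv hw (proj2 ψ hv hw x) =
      proj2 ψ hv hw (A x) + ψ (A x) 0 • proj2 ψ hv hw (A (A v)) := by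
  have hAv : proj2 ψ hv hw (A v) = 0 := Subtype.ext (by simp [proj2_coe, hw])
  simp only [schur2, LinearMap.comp_apply, Submodule.subtype_apply, LinearMap.add_apply,
    LinearMap.smulRight_apply, LinearMap.proj_apply, proj2_coe, map_sub, map_smul, hw, h2, hAv]
  simp

theorem gen_schur2 (A : End K V) (ψ : V →ₗ[K] (Fin 2 → K)) {v : V} (hv : ψ v = e0) (hw : ψ (A v) = e1)
    (a : K) (h2 : ψ (A (A v)) = ![-1, a]) (u : V)
    (hgen : ∀ p : Submodule K V, v ∈ p → u ∈ p → (∀ x ∈ p, A x ∈ p) → p = ⊤)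
    (p : Submodule K (LinearMap.ker ψ)) (hu : proj2 ψ hv hw u ∈ p)
    (hg : proj2 ψ hv hw (A (A v)) ∈ p) (hp : ∀ x ∈ p, schur2 A ψ hv hw x ∈ p) : p = ⊤ := by
  have h := hgen (p.comap (proj2 ψ hv hw)) ?_ hu ?_
  · refine eq_top_iff.2 fun x _ => ?_
    have hx : (x : V) ∈ p.comap (proj2 ψ hv hw) := h ▸ Submodule.mem_top
    rwa [Submodule.mem_comap, proj2_ker] at hx
  · show proj2 ψ hv hw v ∈ p
    rw [show proj2 ψ hv hw v = 0 from Subtype.ext (by simp [proj2_coe, hv])]
    exact zero_mem _
  · intro x hx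
    have := hp _ hx
    rw [schur2_proj A ψ hv hw a h2] at this
    simpa using p.sub_mem this (p.smul_mem (ψ (A x) 0) hg)

/-- A single companion block of size at least three. -/
theorem single_comm {k : ℕ} (c : Fin (k + 2 + 1) → K) (hdet : LinearMap.det (comp c) = 1)
    (hone : ∀ m, Ok m (1 : K)) {a dx : K} (hG : Good2 a dx) {dy : K} (hdy : dy ≠ 0) :
    CommD (comp c) dx dy := by
  set A := comp c with hA
  set t : K := 1 - c (Fin.last _) with ht
  set ψ : (Fin (k + 2 + 1) → K) →ₗ[K] (Fin 2 → K) := psi a t with hψ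
  set v : Fin (k + 2 + 1) → K := Pi.single 0 1 with hvdef
  have hp : ∀ i : ℕ, i < k + 2 + 1 → ψ ((A ^ i) v) = psiVal a t i := fun i hi => by
    rw [hA, hvdef, comp_pow c i hi, hψ, psi_single]
  have hv : ψ v = e0 := hp 0 (by omega)
  have hw : ψ (A v) = e1 := by simpa [psiVal] using hp 1 (by omega)
  have h2 : ψ (A (A v)) = ![-1, a] := by simpa [psiVal, pow_two] using hp 2 (by omega)
  refine block_comm hdet ψ hv hw a h2 (m := k) (by simp) (proj2 ψ hv hw (A (A v)))
    (fun p hcp hp' => gen_schur2 A ψ hv hw a h2 v (fun q h _ hq => comp_gen c h hq) p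
      (by rw [show proj2 ψ hv hw v = 0 from Subtype.ext (by simp [proj2_coe, hv])]; exact zero_mem _)
      hcp hp') ?_ hG hdy
  rcases k with _ | k
  · exact Or.inl rfl
  · have h3 := hp 3 (by omega)
    simp only [pow_succ, pow_zero, one_mul, Module.End.mul_apply] at h3
    rw [h3, hA, trace_comp]
    simpa [psiVal, ht, Ok] using hone (k + 1)

/-- Two companion blocks, the first of size at least three. -/
theorem pair_comm {k f : ℕ} (c : Fin (k + 2 + 1) → K) (d : Fin (f + 1) → K)
    (hdet : LinearMap.det (comp c) * LinearMap.det (comp d) = 1) (hone : ∀ m, Ok m (1 : K))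
    (hthree : k = 0 → Ok (f + 1) (c 0 + d (Fin.last f)))
    {a dx : K} (hG : Good2 a dx) {dy : K} (hdy : dy ≠ 0) :
    CommD (LinearMap.prodMap (comp c) (comp d)) dx dy := by
  set A := LinearMap.prodMap (comp c) (comp d) with hA
  set t : K := 1 - c (Fin.last _) - d (Fin.last _) with ht
  set ψ : ((Fin (k + 2 + 1) → K) × (Fin (f + 1) → K)) →ₗ[K] (Fin 2 → K) :=
    psi a t ∘ₗ LinearMap.fst K _ _ +
      (LinearMap.proj (0 : Fin (f + 1)) ∘ₗ LinearMap.snd K _ _).smulRight e0 with hψ
  set v : (Fin (k + 2 + 1) → K) × (Fin (f + 1) → K) := (Pi.single 0 1, 0) with hvdef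
  set u : (Fin (k + 2 + 1) → K) × (Fin (f + 1) → K) := (0, Pi.single 0 1) with hudef
  have hpow : ∀ (i : ℕ) x y, (A ^ i) (x, y) = (((comp c) ^ i) x, ((comp d) ^ i) y) := by
    intro i
    induction i with
    | zero => intros; rfl
    | succ i ih =>
      intro x y
      rw [pow_succ', Module.End.mul_apply, ih, pow_succ', pow_succ']
      rfl
  have hp : ∀ i : ℕ, i < k + 2 + 1 → ψ ((A ^ i) v) = psiVal a t i := fun i hi => by
    rw [hvdef, hpow, map_zero, comp_pow c i hi, hψ]
    simp [psi_single]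
  have hv : ψ v = e0 := hp 0 (by omega)
  have hw : ψ (A v) = e1 := by simpa [psiVal] using hp 1 (by omega)
  have h2 : ψ (A (A v)) = ![-1, a] := by simpa [psiVal, pow_two] using hp 2 (by omega)
  have hd0 : d 0 ≠ 0 := fun h => by
    rw [det_comp d, h, mul_zero, mul_zero] at hdet
    exact zero_ne_one hdet
  refine block_comm (by rw [LinearMap.det_prodMap]; exact hdet) ψ hv hw a h2 (m := k + f + 1)
    (by simp; omega) (proj2 ψ hv hw u) ?_ ?_ hG hdy
  · intro p hcp hp'
    have horb : ∀ i, i ≤ f → proj2 ψ hv hw ((A ^ i) u) ∈ p := by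
      intro i
      induction i with
      | zero => intro _; exact hcp
      | succ i ih =>
        intro hi
        have h := hp' _ (ih (by omega))
        rw [schur2_proj A ψ hv hw a h2, ← Module.End.mul_apply, ← pow_succ'] at h
        have h0 : ψ ((A ^ (i + 1)) u) 0 = 0 := by
          rw [hudef, hpow, map_zero, comp_pow d (i + 1) (by omega), hψ]
          simp [Fin.ext_iff]
        rwa [h0, zero_smul, add_zero] at h
    have h := hp' _ (horb f le_rfl)
    rw [schur2_proj A ψ hv hw a h2, ← Module.End.mul_apply, ← pow_succ'] at h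
    have htop : (A ^ (f + 1)) u = ∑ i : Fin (f + 1), d i • (A ^ i.val) u := by
      rw [hudef, hpow, map_zero, comp_pow_top d]
      simp only [hpow, map_zero, comp_pow d _ (Fin.isLt _), Prod.smul_mk, smul_zero, Fin.eta]
      rw [Prod.ext_iff, Prod.fst_sum, Prod.snd_sum]
      exact ⟨by simp, pi_eq_sum_univ' d⟩
    have hmem : proj2 ψ hv hw ((A ^ (f + 1)) u) ∈ p := by
      rw [htop, map_sum]
      exact Submodule.sum_mem _ fun i _ => by
        rw [map_smul]
        exact p.smul_mem _ (horb i.val (by omega))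
    have h0 : ψ ((A ^ (f + 1)) u) 0 = d 0 := by
      rw [hudef, hpow, map_zero, comp_pow_top d, hψ]
      simp
    rw [h0] at h
    have hg := p.smul_mem (d 0)⁻¹ (p.sub_mem h hmem)
    rw [add_sub_cancel_left, inv_smul_smul₀ hd0] at hg
    refine gen_schur2 A ψ hv hw a h2 u (fun q hvq huq hq => ?_) p hcp hg hp'
    have e1' : q.comap (LinearMap.inl K _ _) = ⊤ := comp_gen c hvq fun x hx => by
      have := hq _ hx
      simpa [hA] using this
    have e2' : q.comap (LinearMap.inr K _ _) = ⊤ := comp_gen d huq fun x hx => by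
      have := hq _ hx
      simpa [hA] using this
    refine eq_top_iff.2 fun x _ => ?_
    have hx1 : x.1 ∈ q.comap (LinearMap.inl K _ _) := e1' ▸ Submodule.mem_top
    have hx2 : x.2 ∈ q.comap (LinearMap.inr K _ _) := e2' ▸ Submodule.mem_top
    simpa using q.add_mem hx1 hx2
  · rw [hA, LinearMap.trace_prodMap', trace_comp, trace_comp, ← hA]
    rcases k with _ | k
    · have h3 : (A ^ 3) v = ((c, 0) : _ × _) := by
        rw [hvdef, hpow, map_zero, comp_pow_top c]
      simp only [pow_succ, pow_zero, one_mul, Module.End.mul_apply] at h3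
      have hval : ψ (A (A (A v))) 0 = c 0 - c (Fin.last _) := by
        rw [h3, hψ]
        simp [psi, Fin.sum_univ_three, psiVal, Fin.last]
        ring
      rw [hval, show c (Fin.last _) + d (Fin.last f) + (c 0 - c (Fin.last _)) = c 0 + d (Fin.last f) by ring]
      simpa [Ok] using hthree rfl
    · have h3 := hp 3 (by omega)
      simp only [pow_succ, pow_zero, one_mul, Module.End.mul_apply] at h3
      rw [h3]
      simpa [psiVal, ht, Ok] using hone (k + 1 + f + 1)

end CfsgLib.SLComm
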