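import Cfsg.Agent.Lib.SLComm.Companion

/-!
# Decomposition into companion blocks
-/

set_option autoImplicit false
set_option linter.unusedSectionVars false

namespace CfsgLib.SLComm

open Module Polynomial

universe u

variable {K : Type u} [Field K]

theorem aeval_comp_single {m : ℕ} (c : Fin (m + 1) → K) (P : K[X]) (hP : P.natDegree < m + 1) :
    aeval (comp c) P (Pi.single 0 1) = fun i => P.coeff i.val := by
  rw [aeval_eq_sum_range' hP, LinearMap.sum_apply, ← Fin.sum_univ_eq_sum_range
    (fun i => (P.coeff i • (comp c) ^ i) (Pi.single 0 1)) (m + 1)]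
  simp only [LinearMap.smul_apply, comp_pow c _ (Fin.isLt _), Fin.eta]
  exact (pi_eq_sum_univ' (fun i : Fin (m + 1) => P.coeff i.val)).symm

theorem exists_comp_quotient {g : K[X]} (hg : g.Monic) {m : ℕ} (hm : g.natDegree = m + 1) :
    ∃ c : Fin (m + 1) → K, Nonempty ((K[X] ⧸ (K[X] ∙ g)) ≃ₗ[K[X]] AEval' (comp c)) := by
  refine ⟨fun i => -g.coeff i.val, ?_⟩
  set c : Fin (m + 1) → K := fun i => -g.coeff i.val
  set e : AEval' (comp c) := AEval'.of (comp c) (Pi.single 0 1)
  set Φ := LinearMap.toSpanSingleton K[X] (AEval' (comp c)) e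
  have happ : ∀ P, Φ P = AEval'.of (comp c) (aeval (comp c) P (Pi.single 0 1)) := fun P => rfl
  have hg0 : aeval (comp c) g (Pi.single 0 1) = 0 := by
    rw [aeval_eq_sum_range, hm, Finset.sum_range_succ, LinearMap.add_apply, LinearMap.smul_apply,
      comp_pow_top c, LinearMap.sum_apply, ← Fin.sum_univ_eq_sum_range
      (fun i => (g.coeff i • (comp c) ^ i) (Pi.single 0 1)) (m + 1)]
    simp only [LinearMap.smul_apply, comp_pow c _ (Fin.isLt _), Fin.eta]
    rw [← pi_eq_sum_univ' (fun i : Fin (m + 1) => g.coeff i.val),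
      show g.coeff (m + 1) = 1 by rw [← hm]; exact hg.coeff_natDegree, one_smul]
    funext i
    simp [c]
  have hker : LinearMap.ker Φ = (K[X] ∙ g) := by
    refine le_antisymm (fun P hP => ?_) ?_
    · rw [LinearMap.mem_ker, happ, LinearEquiv.map_eq_zero_iff] at hP
      rw [← modByMonic_add_div P g, mul_comm g, map_add, map_mul, LinearMap.add_apply,
        Module.End.mul_apply, hg0, map_zero, add_zero] at hP
      rw [Submodule.mem_span_singleton]
      refine ⟨P /ₘ g, ?_⟩
      have hr : P %ₘ g = 0 := by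
        ext i
        by_cases hi : i < m + 1
        · rw [aeval_comp_single c _ ?_] at hP
          · simpa using congrFun hP ⟨i, hi⟩
          · rw [← hm]
            exact natDegree_modByMonic_lt P hg (fun h => by simp [h] at hm)
        · rw [coeff_zero]
          refine coeff_eq_zero_of_natDegree_lt ?_
          have := natDegree_modByMonic_lt P hg (fun h => by simp [h] at hm)
          omega
      conv_rhs => rw [← modByMonic_add_div P g, hr, zero_add, mul_comm g]
      rfl
    · rw [Submodule.span_singleton_le_iff_mem, LinearMap.mem_ker, happ, hg0, map_zero]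
  have hsur : Function.Surjective Φ := by
    intro y
    obtain ⟨f, rfl⟩ := (AEval'.of (comp c)).surjective y
    refine ⟨∑ i : Fin (m + 1), C (f i) * X ^ i.val, ?_⟩
    rw [happ]
    congr 1
    simp only [map_sum, map_mul, aeval_C, map_pow, aeval_X, LinearMap.sum_apply, Module.End.mul_apply,
      comp_pow c _ (Fin.isLt _), Fin.eta, Module.algebraMap_end_apply]
    exact (pi_eq_sum_univ' f).symm
  exact ⟨(Submodule.quotEquivOfEq _ _ hker.symm).trans (Φ.quotKerEquivOfSurjective hsur)⟩

variable {V : Type u} [AddCommGroup V] [Module K V] [FiniteDimensional K V]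

/-- Every endomorphism is a direct sum of companion blocks. -/
theorem exists_comp_decomp (A : End K V) :
    ∃ (k : ℕ) (m : Fin k → ℕ) (c : ∀ i, Fin (m i + 1) → K)
      (e : V ≃ₗ[K] (∀ i, Fin (m i + 1) → K)), ∀ x i, e (A x) i = comp (c i) (e x i) := by
  classical
  obtain ⟨ι, _, p, hp, e, ⟨E⟩⟩ :=
    Module.equiv_directSum_of_isTorsion (R := K[X]) (M := AEval' A) (Module.AEval.isTorsion_of_finiteDimensional ..)
  let E₁ := E.trans (DirectSum.linearEquivFunOnFintype K[X] ι fun i => K[X] ⧸ (K[X] ∙ p i ^ e i))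
  let s : Type u := {i : ι // e i ≠ 0}
  have hsub : ∀ i, e i = 0 → ∀ x : K[X] ⧸ (K[X] ∙ p i ^ e i), x = 0 := fun i hi x => by
    obtain ⟨P, rfl⟩ := Submodule.Quotient.mk_surjective _ x
    rw [Submodule.Quotient.mk_eq_zero, hi, pow_zero]
    exact Submodule.mem_span_singleton.2 ⟨P, by simp⟩
  let E₂ : (∀ i, K[X] ⧸ (K[X] ∙ p i ^ e i)) ≃ₗ[K[X]] ∀ i : s, K[X] ⧸ (K[X] ∙ p i.1 ^ e i.1) :=
    { toFun := fun f i => f i.1
      map_add' := fun _ _ => rfl
      map_smul' := fun _ _ => rfl
      invFun := fun f i => if h : e i ≠ 0 then f ⟨i, h⟩ else 0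
      left_inv := fun f => funext fun i => by
        by_cases h : e i ≠ 0
        · simp only [dif_pos h]
        · simp only [dif_neg h]; exact (hsub i (not_ne_iff.1 h) _).symm
      right_inv := fun f => funext fun i => dif_pos i.2 }
  let σ := (Fintype.equivFin s).symm
  have hne : ∀ j, p (σ j).1 ^ e (σ j).1 ≠ 0 := fun j => pow_ne_zero _ (hp _).ne_zero
  let g : Fin (Fintype.card s) → K[X] := fun j => normalize (p (σ j).1 ^ e (σ j).1)
  have hg : ∀ j, (g j).Monic := fun j => monic_normalize (hne j)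
  have hdeg : ∀ j, ∃ m, (g j).natDegree = m + 1 := fun j => by
    refine ⟨(g j).natDegree - 1, ?_⟩
    have h1 : (g j).natDegree = e (σ j).1 * (p (σ j).1).natDegree := by
      rw [natDegree_eq_of_degree_eq degree_normalize, natDegree_pow]
    have := (hp (σ j).1).natDegree_pos
    have := Nat.pos_of_ne_zero (σ j).2
    rw [h1]
    have := Nat.mul_pos ‹0 < e (σ j).1› ‹0 < (p (σ j).1).natDegree›
    omega
  choose m hm using hdeg
  choose c hc using fun j => exists_comp_quotient (hg j) (hm j)
  let E₃ : (∀ i : s, K[X] ⧸ (K[X] ∙ p i.1 ^ e i.1)) ≃ₗ[K[X]] ∀ j, AEval' (comp (c j)) :=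
    (LinearEquiv.piCongrLeft' K[X] _ σ.symm).trans (LinearEquiv.piCongrRight fun j =>
      (Submodule.quotEquivOfEq _ _ (Submodule.span_singleton_eq_span_singleton.2
        (let ⟨u, h⟩ := associated_normalize (p (σ j).1 ^ e (σ j).1)
        ⟨u, by rw [Units.smul_def, smul_eq_mul, mul_comm]; exact h⟩))).trans (hc j).some)
  let T := (E₁.trans E₂).trans E₃
  refine ⟨_, m, c, (AEval'.of A).trans ((T.restrictScalars K).trans
    (LinearEquiv.piCongrRight fun j => (AEval'.of (comp (c j))).symm)), fun x j => ?_⟩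
  show (AEval'.of (comp (c j))).symm (T (AEval'.of A (A x)) j) = _
  rw [← AEval'.X_smul_of, map_smul]
  exact AEval.of_symm_X_smul _ _

end CfsgLib.SLComm
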