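import Cfsg.Agent.Lib.SLComm.Decomp

/-!
# Families of companion blocks
-/

set_option autoImplicit false
set_option linter.unusedSectionVars false

namespace CfsgLib.SLComm

open Module

variable {K : Type} [Field K]

/-- The direct sum of a family of companion blocks. -/
noncomputable def blockOp {ι : Type} {m : ι → ℕ} (c : ∀ i, Fin (m i + 1) → K) :
    End K (∀ i, Fin (m i + 1) → K) :=
  LinearMap.pi fun i => comp (c i) ∘ₗ LinearMap.proj i

/-- The rest of a family. -/
abbrev restM {ι : Type} (m : ι → ℕ) (i₀ : ι) : {i // i ≠ i₀} → ℕ := fun i => m i.1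

/-- Split one member off. -/
def peel {ι : Type} [DecidableEq ι] {m : ι → ℕ} (i₀ : ι) :
    (∀ i, Fin (m i + 1) → K) ≃ₗ[K]
      (Fin (m i₀ + 1) → K) × (∀ i : {i // i ≠ i₀}, Fin (restM m i₀ i + 1) → K) where
  toFun f := (f i₀, fun i => f i.1)
  map_add' _ _ := rfl
  map_smul' _ _ := rfl
  invFun p i := if h : i = i₀ then h ▸ p.1 else p.2 ⟨i, h⟩
  left_inv f := funext fun i => by
    by_cases h : i = i₀
    · subst h; simp
    · simp [h]
  right_inv p := Prod.ext (by simp) (funext fun i => dif_neg i.2)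

theorem peel_op {ι : Type} [DecidableEq ι] {m : ι → ℕ} (c : ∀ i, Fin (m i + 1) → K) (i₀ : ι)
    (x : ∀ i, Fin (m i + 1) → K) :
    peel i₀ (blockOp c x) =
      LinearMap.prodMap (comp (c i₀)) (blockOp (m := restM m i₀) fun i => c i.1) (peel i₀ x) := rfl

theorem det_peel {ι : Type} [Fintype ι] [DecidableEq ι] {m : ι → ℕ} (c : ∀ i, Fin (m i + 1) → K)
    (i₀ : ι) : LinearMap.det (blockOp c) =
      LinearMap.det (comp (c i₀)) * LinearMap.det (blockOp (m := restM m i₀) fun i => c i.1) := by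
  have h : blockOp c = (peel i₀).symm.conj
      (LinearMap.prodMap (comp (c i₀)) (blockOp (m := restM m i₀) fun i => c i.1)) :=
    LinearMap.ext fun x => (peel i₀).injective (by simp [LinearEquiv.conj_apply, peel_op])
  rw [h, LinearEquiv.conj_apply, LinearMap.comp_assoc, LinearMap.det_conj, LinearMap.det_prodMap]

theorem det_blockOp_one {ι : Type} [Fintype ι] {m : ι → ℕ} (c : ∀ i, Fin (m i + 1) → K)
    (h : ∀ i, LinearMap.det (comp (c i)) = 1) : LinearMap.det (blockOp c) = 1 := by
  rw [show blockOp c = LinearMap.pi fun i => comp (c i) ∘ₗ LinearMap.proj i from rfl]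
  induction hk : Fintype.card ι using Nat.strongRecOn generalizing ι with
  | ind k ih =>
    classical
    rcases isEmpty_or_nonempty ι with h0 | ⟨⟨i₀⟩⟩
    · exact LinearMap.det_eq_one_of_finrank_eq_zero (Module.finrank_zero_of_subsingleton) _
    · show LinearMap.det (blockOp c) = 1
      rw [det_peel c i₀, h i₀, one_mul]
      refine ih _ ?_ _ (fun i => h i.1) rfl
      rw [← hk]
      exact Fintype.card_subtype_lt (x := i₀) (by simp)

theorem CommD.peel {ι : Type} [Fintype ι] [DecidableEq ι] {m : ι → ℕ} {c : ∀ i, Fin (m i + 1) → K}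
    (i₀ : ι) {a b a' b' : K} (h₁ : CommD (comp (c i₀)) a b)
    (h₂ : CommD (blockOp (m := restM m i₀) fun i => c i.1) a' b') :
    CommD (blockOp c) (a * a') (b * b') :=
  (h₁.prod h₂).congr' (SLComm.peel i₀) (peel_op c i₀)

theorem CommD.peel₂ {ι : Type} [Fintype ι] [DecidableEq ι] {m : ι → ℕ} {c : ∀ i, Fin (m i + 1) → K}
    (i₀ : ι) (j₀ : {i // i ≠ i₀}) {a b a' b' : K}
    (h₁ : CommD (LinearMap.prodMap (comp (c i₀)) (comp (c j₀.1))) a b)
    (h₂ : CommD (blockOp (m := restM (restM m i₀) j₀) fun i => c i.1.1) a' b') :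
    CommD (blockOp c) (a * a') (b * b') :=
  (h₁.prod h₂).congr'
    (((SLComm.peel i₀).trans ((LinearEquiv.refl K _).prodCongr (SLComm.peel (m := restM m i₀) j₀))).trans
      (LinearEquiv.prodAssoc K _ _ _).symm) fun _ => rfl

theorem CommD.swap {V W : Type} [AddCommGroup V] [Module K V] [AddCommGroup W] [Module K W]
    [FiniteDimensional K V] [FiniteDimensional K W] {A : End K V} {B : End K W} {a b : K}
    (h : CommD (LinearMap.prodMap A B) a b) : CommD (LinearMap.prodMap B A) a b :=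
  h.congr (LinearEquiv.prodComm K V W) fun _ => rfl

theorem commD_empty {ι : Type} [Fintype ι] [IsEmpty ι] {m : ι → ℕ} (c : ∀ i, Fin (m i + 1) → K) :
    CommD (blockOp c) 1 1 :=
  ⟨1, 1, map_one _, map_one _, LinearMap.ext fun x => funext fun i => isEmptyElim i⟩

theorem rest_empty {ι : Type} [Fintype ι] (i₀ : ι) (h : Fintype.card ι = 1) :
    IsEmpty {i // i ≠ i₀} :=
  ⟨fun i => i.2 (Fintype.card_le_one_iff.1 h.le _ _)⟩

theorem commD_of_rest_empty {ι : Type} [Fintype ι] [DecidableEq ι] {m : ι → ℕ}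
    {c : ∀ i, Fin (m i + 1) → K} (i₀ : ι) [IsEmpty {i // i ≠ i₀}] {a b : K}
    (h : CommD (comp (c i₀)) a b) : CommD (blockOp c) a b := by
  simpa using h.peel i₀ (commD_empty (m := restM m i₀) fun i => c i.1)

end CfsgLib.SLComm
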