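import Cfsg.Agent.Lib.SLComm.Basic

/-!
# A cyclic endomorphism as a product of two regular unipotent ones
-/

set_option autoImplicit false
set_option linter.unusedSectionVars false

namespace CfsgLib.SLComm

open Module

universe u

variable {K : Type u} [Field K] {V : Type u} [AddCommGroup V] [Module K V] [FiniteDimensional K V]

theorem det_of_unipotent {B : End K V} (h : IsNilpotent (B - 1)) : LinearMap.det B = 1 := by
  have h1 := LinearMap.eval_charpoly (B - 1) (-1 : K)
  rw [IsNilpotent.charpoly_eq_X_pow_finrank h, Polynomial.eval_pow, Polynomial.eval_X,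
    show algebraMap K (End K V) (-1) - (B - 1) = (-1 : K) • B by simp; abel, LinearMap.det_smul] at h1
  exact (mul_left_cancel₀ (pow_ne_zero _ (neg_ne_zero.2 one_ne_zero)) (h1.symm.trans (mul_one _).symm))

/-- The Hessenberg sequence of `S` with parameters `u`. -/
def seq (S : End K V) (c : V) (u : ℕ → K) : ℕ → V
  | 0 => c
  | 1 => S c - c
  | j + 2 => S (seq S c u (j + 1)) - (1 + u j) • seq S c u (j + 1) - u j • seq S c u j

/-- The part of the span of the first `k` terms of a sequence. -/
abbrev below (b : ℕ → V) (k : ℕ) : Submodule K V := Submodule.span K (b '' Set.Iio k)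

theorem mem_below {b : ℕ → V} {i k : ℕ} (h : i < k) : b i ∈ below (K := K) b k :=
  Submodule.subset_span ⟨i, h, rfl⟩

theorem below_mono {b : ℕ → V} {i k : ℕ} (h : i ≤ k) : below (K := K) b i ≤ below b k :=
  Submodule.span_mono (Set.image_mono (Set.Iio_subset_Iio h))

theorem seq_zero_rel (S : End K V) (c : V) (u : ℕ → K) :
    S (seq S c u 0) = seq S c u 0 + seq S c u 1 := by simp [seq]

theorem seq_succ_rel (S : End K V) (c : V) (u : ℕ → K) (j : ℕ) :
    S (seq S c u (j + 1)) =
      seq S c u (j + 1) + seq S c u (j + 2) + u j • (seq S c u j + seq S c u (j + 1)) := by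
  conv_rhs => rw [seq]
  module

theorem seq_map_mem (S : End K V) (c : V) (u : ℕ → K) (i : ℕ) :
    S (seq S c u i) ∈ below (K := K) (seq S c u) (i + 2) := by
  rcases i with _ | j
  · rw [seq_zero_rel]
    exact add_mem (mem_below (by omega)) (mem_below (by omega))
  · rw [seq_succ_rel]
    exact add_mem (add_mem (mem_below (by omega)) (mem_below (by omega)))
      (Submodule.smul_mem _ _ (add_mem (mem_below (by omega)) (mem_below (by omega))))

theorem seq_basis {S : End K V} {m : ℕ} (hV : finrank K V = m + 1) {c : V}
    (hc : ∀ p : Submodule K V, c ∈ p → (∀ x ∈ p, S x ∈ p) → p = ⊤) (u : ℕ → K) :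
    ∃ b : Basis (Fin (m + 1)) K V, ∀ i, b i = seq S c u i.val := by
  set b := seq S c u with hb
  have hnot : ∀ k ≤ m, b k ∉ below (K := K) b k := by
    intro k hk hmem
    have htop : below (K := K) b k = ⊤ := by
      refine hc _ ?_ ?_
      · rcases k with _ | k
        · exact hmem
        · exact mem_below (b := b) (Nat.succ_pos k)
      · suffices below (K := K) b k ≤ (below (K := K) b k).comap S from fun x hx => this hx
        rw [Submodule.span_le]
        rintro _ ⟨i, hi, rfl⟩
        show S (b i) ∈ below b k
        have h2 : below (K := K) b (k + 1) ≤ below b k := by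
          rw [Submodule.span_le]
          rintro _ ⟨j, hj, rfl⟩
          rcases lt_or_eq_of_le (Nat.lt_succ_iff.1 hj) with h | h
          · exact mem_below h
          · rw [h]; exact hmem
        exact h2 (below_mono (by have := hi.out; omega) (seq_map_mem S c u i))
    have h1 : finrank K (below (K := K) b k) ≤ k := by
      have h2 := finrank_range_le_card (R := K) (fun i : Fin k => b i.val)
      have e : Set.range (fun i : Fin k => b i.val) = b '' Set.Iio k := by
        ext x
        exact ⟨fun ⟨i, hi⟩ => ⟨i.val, i.isLt, hi⟩, fun ⟨i, hi, hx⟩ => ⟨⟨i, hi⟩, hx⟩⟩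
      rw [Set.finrank, e, Fintype.card_fin] at h2
      exact h2
    rw [htop, finrank_top] at h1
    omega
  have hli : ∀ k ≤ m + 1, LinearIndependent K fun i : Fin k => b i.val := by
    intro k
    induction k with
    | zero => intro _; exact linearIndependent_empty_type
    | succ k ih =>
      intro hk
      rw [linearIndependent_finSucc']
      refine ⟨ih (by omega), fun h => hnot k (by omega) (Submodule.span_mono ?_ h)⟩
      rintro _ ⟨i, rfl⟩
      exact ⟨i.val, i.isLt, rfl⟩
  exact ⟨basisOfLinearIndependentOfCardEqFinrank (hli _ le_rfl) (by simp [hV]), fun i => by simp⟩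

/-- A cyclic endomorphism of determinant one, with suitable trace, is a product of two regular
unipotent endomorphisms. -/
theorem lu_split {S : End K V} {m : ℕ} (hV : finrank K V = m + 1) (hdet : LinearMap.det S = 1)
    {c : V} (hc : ∀ p : Submodule K V, c ∈ p → (∀ x ∈ p, S x ∈ p) → p = ⊤)
    (htr : m = 0 ∨ ∃ u : ℕ → K, (∀ i, u i ≠ 0) ∧
      LinearMap.trace K V S = (m + 1 : ℕ) + ∑ i ∈ Finset.range m, u i) :
    ∃ B C : End K V, S = B * C ∧ (B - 1) ^ (m + 1) = 0 ∧ (C - 1) ^ (m + 1) = 0 ∧
      (B - 1) ^ m ≠ 0 ∧ (C - 1) ^ m ≠ 0 := by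
  classical
  have : Nontrivial V := Module.nontrivial_of_finrank_eq_succ hV
  rcases Nat.eq_zero_or_pos m with rfl | hm
  · refine ⟨1, 1, ?_, by simp, by simp, by simp, by simp⟩
    obtain ⟨x, hx⟩ := exists_ne (0 : V)
    obtain ⟨a, ha⟩ := (finrank_eq_one_iff_of_nonzero' x hx).1 hV (S x)
    have hS : S = a • (1 : End K V) := LinearMap.ext fun y => by
      obtain ⟨b, rfl⟩ := (finrank_eq_one_iff_of_nonzero' x hx).1 hV y
      simp [← ha]
    rw [hS, LinearMap.det_smul, hV, pow_one, map_one, mul_one] at hdet
    simp [hS, hdet]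
  obtain ⟨u, hu, htr⟩ := htr.resolve_left (by omega)
  obtain ⟨bb, hbb⟩ := seq_basis hV hc u
  set b := seq S c u with hb
  let L : End K V := bb.constr K fun i => b i + if i.val < m then b (i.val + 1) else 0
  have hL : ∀ i, i ≤ m → L (b i) = b i + if i < m then b (i + 1) else 0 := fun i hi => by
    have := Basis.constr_basis bb K (fun i => b i + if i.val < m then b (i.val + 1) else 0)
      (⟨i, by omega⟩ : Fin (m + 1))
    rwa [hbb] at this
  have hN : ∀ k i, i ≤ m → ((L - 1) ^ k) (b i) = if i + k ≤ m then b (i + k) else 0 := by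
    intro k
    induction k with
    | zero => intro i hi; simp [hi]
    | succ k ih =>
      intro i hi
      rw [pow_succ', Module.End.mul_apply, ih i hi]
      by_cases h : i + k ≤ m
      · rw [if_pos h, LinearMap.sub_apply, Module.End.one_apply, hL _ h, add_sub_cancel_left]
        by_cases h' : i + k < m
        · rw [if_pos h', if_pos (by omega)]; rfl
        · rw [if_neg h', if_neg (by omega)]
      · rw [if_neg h, if_neg (by omega), map_zero]
  have hL0 : (L - 1) ^ (m + 1) = 0 := bb.ext fun i => by
    rw [hbb, hN _ _ (by omega), if_neg (by omega), LinearMap.zero_apply]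
  have hL1 : (L - 1) ^ m ≠ 0 := fun h => by
    have h1 := hN m 0 (by omega)
    rw [h, if_pos (by omega), zero_add, LinearMap.zero_apply, ← Fin.val_last m, ← hbb] at h1
    exact bb.ne_zero _ h1.symm
  have hdL : LinearMap.det L = 1 := det_of_unipotent ⟨_, hL0⟩
  obtain ⟨Lu, hLu⟩ : IsUnit L := by
    have := IsNilpotent.isUnit_one_add (r := L - 1) ⟨m + 1, hL0⟩
    rwa [add_sub_cancel] at this
  let U : End K V := ↑Lu⁻¹ * S
  have hLU : L * U = S := by rw [← hLu, ← mul_assoc, Lu.mul_inv, one_mul]
  have hinj : Function.Injective L := by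
    intro x y h
    have := congrArg (↑Lu⁻¹ : End K V) h
    rw [← Module.End.mul_apply, ← Module.End.mul_apply, ← hLu, Lu.inv_mul] at this
    exact this
  have hLUa : ∀ x, L (U x) = S x := fun x => by rw [← Module.End.mul_apply, hLU]
  have hU0 : U (b 0) = b 0 := hinj (by rw [hLUa, hb, seq_zero_rel, ← hb, hL 0 (by omega), if_pos hm])
  have hUs : ∀ j, j + 1 < m → U (b (j + 1)) = b (j + 1) + u j • b j := fun j hj => hinj (by
    rw [hLUa, hb, seq_succ_rel, ← hb, map_add, map_smul, hL (j + 1) (by omega), hL j (by omega),
      if_pos hj, if_pos (by omega)])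
  set M := LinearMap.toMatrix bb bb U with hM
  have hcol : ∀ i j : Fin (m + 1), j.val < m →
      M i j = (if i = j then 1 else 0) + (if i.val + 1 = j.val then u i.val else 0) := by
    intro i j hj
    rw [hM, LinearMap.toMatrix_apply, hbb]
    rcases j with ⟨_ | j, hj'⟩
    · simp only [hU0, Nat.add_one_ne_zero, if_false, add_zero]
      rw [← hbb ⟨0, hj'⟩, Basis.repr_self, Finsupp.single_apply]
      simp only [eq_comm]
    · simp only at hj
      rw [show U (b (j + 1)) = bb ⟨j + 1, hj'⟩ + u j • bb ⟨j, by omega⟩ by rw [hUs j hj, hbb, hbb],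
        map_add, map_smul, Basis.repr_self, Basis.repr_self, Finsupp.add_apply, Finsupp.smul_apply,
        Finsupp.single_apply, Finsupp.single_apply]
      simp only [Fin.ext_iff]
      rw [smul_eq_mul]
      congr 1
      · simp only [eq_comm]
      · by_cases e : j = i.val
        · subst e; rw [if_pos rfl, if_pos rfl, mul_one]
        · rw [if_neg e, if_neg (fun e' => e (by omega)), mul_zero]
  have htri : M.BlockTriangular id := by
    intro i j hij
    have hj : j.val < m := by
      have h : j.val < i.val := hij
      omega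
    rw [hcol i j hj, if_neg (fun h => by subst h; exact lt_irrefl _ hij),
      if_neg (fun h => by have h2 : j.val < i.val := hij; omega), add_zero]
  have hdiag : ∀ i : Fin (m + 1), M i i = 1 := by
    have hlow : ∀ i : Fin (m + 1), i.val < m → M i i = 1 := fun i hi => by rw [hcol i i hi]; simp
    have hd : M.det = 1 := by
      rw [hM, LinearMap.det_toMatrix]
      have := congrArg LinearMap.det hLU
      rwa [map_mul, hdL, one_mul, hdet] at this
    rw [Matrix.det_of_isUpperTriangular htri, Finset.prod_eq_single (Fin.last m) ?_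
      (fun h => absurd (Finset.mem_univ _) h)] at hd
    · intro i
      rcases lt_or_eq_of_le (Nat.lt_succ_iff.1 i.isLt) with h | h
      · exact hlow i h
      · rwa [show i = Fin.last m from Fin.ext h]
    · intro i _ hi
      exact hlow i (Fin.val_lt_last hi)
  -- the last superdiagonal entry
  have hS : ∀ i : Fin (m + 1), bb.repr (S (bb i)) i =
      1 + if h : i.val = 0 then 0 else M ⟨i.val - 1, by omega⟩ i := by
    intro i
    rw [← hLUa]
    conv_lhs => rw [← bb.sum_repr (U (bb i))]
    simp only [map_sum, map_smul, Finsupp.coe_finsetSum, Finset.sum_apply, Finsupp.smul_apply]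
    have hterm : ∀ j : Fin (m + 1), bb.repr (L (bb j)) i =
        (if j = i then 1 else 0) + (if j.val + 1 = i.val then 1 else 0) := by
      intro j
      rw [hbb, hL _ (by omega), map_add, Finsupp.add_apply, ← hbb, Basis.repr_self, Finsupp.single_apply]
      congr 1
      by_cases hj : j.val < m
      · rw [if_pos hj, ← hbb ⟨j.val + 1, by omega⟩, Basis.repr_self, Finsupp.single_apply]
        simp [Fin.ext_iff]
      · rw [if_neg hj, map_zero, if_neg (by omega)]
        rfl
    simp only [hterm, smul_eq_mul, mul_add, mul_ite, mul_one, mul_zero, Finset.sum_add_distrib]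
    have hMr : ∀ j, bb.repr (U (bb i)) j = M j i := fun j => by rw [hM, LinearMap.toMatrix_apply]
    simp only [hMr, Finset.sum_ite_eq', Finset.mem_univ, if_true, hdiag]
    congr 1
    split_ifs with h
    · exact Finset.sum_eq_zero fun j _ => if_neg (by omega)
    · rw [Finset.sum_eq_single (⟨i.val - 1, by omega⟩ : Fin (m + 1)) ?_
        (fun hh => absurd (Finset.mem_univ _) hh)]
      · rw [if_pos (show i.val - 1 + 1 = i.val by omega)]
      · exact fun j _ hj => if_neg fun e => hj (Fin.ext (show j.val = i.val - 1 by omega))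
  have hsup : ∀ j : Fin m, M j.castSucc j.succ = u j.val := by
    have hlow : ∀ j : Fin m, j.val + 1 < m → M j.castSucc j.succ = u j.val := fun j hj => by
      rw [hcol _ _ (by simpa using hj), if_neg (by simp [Fin.ext_iff]), if_pos (by simp)]
      simp
    have h1 : LinearMap.trace K V S = (m + 1 : ℕ) + ∑ j : Fin m, M j.castSucc j.succ := by
      rw [LinearMap.trace_eq_matrix_trace K bb, Matrix.trace]
      simp only [Matrix.diag, LinearMap.toMatrix_apply, hS, Finset.sum_add_distrib]
      congr 1
      · simp
      · rw [Fin.sum_univ_succ]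
        simp
        rfl
    obtain ⟨k, rfl⟩ : ∃ k, m = k + 1 := ⟨m - 1, by omega⟩
    rw [h1, add_right_inj, Finset.sum_range, Fin.sum_univ_castSucc, Fin.sum_univ_castSucc,
      Finset.sum_congr rfl fun j _ => hlow j.castSucc (by simp), add_right_inj] at htr
    intro j
    induction j using Fin.lastCases with
    | last => exact htr
    | cast i => exact hlow i.castSucc (by simp)
  have hUN : ∀ j, j < m → (U - 1) (b (j + 1)) - u j • b j ∈ below (K := K) b j := by
    intro j hj
    have e := bb.sum_repr (U (bb ⟨j + 1, by omega⟩))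
    have e2 : (U - 1) (b (j + 1)) - u j • b j =
        ∑ i : Fin (m + 1), if i.val < j then M i ⟨j + 1, by omega⟩ • bb i else 0 := by
      have hsplit : ∀ i : Fin (m + 1), bb.repr (U (bb ⟨j + 1, by omega⟩)) i • bb i =
          (if i.val < j then M i ⟨j + 1, by omega⟩ • bb i else 0) +
          (if i = ⟨j + 1, by omega⟩ then bb i else 0) +
          (if i = ⟨j, by omega⟩ then u j • bb i else 0) := by
        intro i
        rw [← LinearMap.toMatrix_apply, ← hM]
        by_cases h1 : i.val < j
        · rw [if_pos h1, if_neg (by simp [Fin.ext_iff]; omega), if_neg (by simp [Fin.ext_iff]; omega),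
            add_zero, add_zero]
        rw [if_neg h1, zero_add]
        by_cases h2 : i = ⟨j, by omega⟩
        · rw [h2, if_neg (by simp [Fin.ext_iff]), if_pos rfl, zero_add]
          congr 1
          exact hsup ⟨j, hj⟩
        rw [if_neg h2, add_zero]
        by_cases h3 : i = ⟨j + 1, by omega⟩
        · rw [h3, if_pos rfl, hdiag, one_smul]
        rw [if_neg h3, htri, zero_smul]
        show j + 1 < i.val
        simp [Fin.ext_iff] at h2 h3
        omega
      simp only [hsplit, Finset.sum_add_distrib, Finset.sum_ite_eq', Finset.mem_univ, if_true] at e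
      rw [LinearMap.sub_apply, Module.End.one_apply, ← hbb ⟨j + 1, by omega⟩, ← hbb ⟨j, by omega⟩, ← e]
      abel
    rw [e2]
    refine Submodule.sum_mem _ fun i _ => ?_
    split_ifs with h
    · rw [hbb]; exact Submodule.smul_mem _ _ (mem_below h)
    · exact zero_mem _
  have hker : ∀ j, j ≤ m + 1 → below (K := K) b j ≤ LinearMap.ker ((U - 1) ^ j) := by
    intro j
    induction j with
    | zero => intro _; rw [Submodule.span_le]; rintro _ ⟨i, hi, rfl⟩; exact absurd hi.out (Nat.not_lt_zero i)
    | succ j ih =>
      intro hj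
      have h0 : below (K := K) b j ≤ LinearMap.ker ((U - 1) ^ (j + 1)) := fun x hx => by
        rw [LinearMap.mem_ker, pow_succ', Module.End.mul_apply, LinearMap.mem_ker.1 (ih (by omega) hx),
          map_zero]
      rw [Submodule.span_le]
      rintro _ ⟨i, hi, rfl⟩
      rcases lt_or_eq_of_le (Nat.lt_succ_iff.1 hi) with h | h
      · exact h0 (mem_below h)
      show ((U - 1) ^ (j + 1)) (b i) = 0
      subst h
      rw [pow_succ, Module.End.mul_apply]
      rcases i with _ | k
      · simp [hU0]
      · rw [← sub_add_cancel ((U - 1) (b (k + 1))) (u k • b k), map_add, map_smul,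
          LinearMap.mem_ker.1 (ih (by omega) (below_mono (Nat.le_succ k) (hUN k (by omega)))),
          LinearMap.mem_ker.1 (ih (by omega) (mem_below (Nat.lt_succ_self k))), smul_zero, zero_add]
  have hpow : ∀ j, j ≤ m → ∃ a : K, a ≠ 0 ∧ ((U - 1) ^ j) (b j) = a • b 0 := by
    intro j
    induction j with
    | zero => intro _; exact ⟨1, one_ne_zero, by simp⟩
    | succ j ih =>
      intro hj
      obtain ⟨a, ha, hp⟩ := ih (by omega)
      refine ⟨u j * a, mul_ne_zero (hu j) ha, ?_⟩
      rw [pow_succ, Module.End.mul_apply, ← sub_add_cancel ((U - 1) (b (j + 1))) (u j • b j), map_add,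
        map_smul, hp, LinearMap.mem_ker.1 (hker j (by omega) (hUN j (by omega))), zero_add, smul_smul]
  refine ⟨L, U, hLU.symm, hL0, bb.ext fun i => ?_, hL1, fun h => ?_⟩
  · rw [hbb, LinearMap.zero_apply]
    exact hker (m + 1) le_rfl (mem_below i.isLt)
  · obtain ⟨a, ha, hp⟩ := hpow m le_rfl
    rw [h, LinearMap.zero_apply, show b 0 = bb 0 from (hbb 0).symm] at hp
    exact smul_ne_zero ha (bb.ne_zero 0) hp.symm

end CfsgLib.SLComm
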