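import Cfsg.Agent.Lib.TwoJordan.Step
import Cfsg.Agent.Lib.SLComm.LU

/-!
# Nonscalar elements over fields with at least four elements
-/

set_option autoImplicit false
set_option linter.unusedSectionVars false

namespace CfsgLib.SLComm

open Module CfsgLib.TwoJordan

universe u

variable {K : Type u} [Field K] {V : Type u} [AddCommGroup V] [Module K V] [FiniteDimensional K V]

/-- Splitting off an eigenvalue pair `a`, `a⁻¹`. -/
theorem level {A : End K V} (φ : V →ₗ[K] K) {v : V} (hv : φ v = 1) (hAv : φ (A v) = 1)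
    {B₁ C₁ P₁ : End K (LinearMap.ker φ)} (hS : schur A φ hAv = B₁ * C₁) (hP₁ : C₁ * P₁ * B₁ = P₁)
    {a : K} (ha : a ≠ 0) (hB : IsUnit (B₁ - a • 1)) (hC : IsUnit (C₁ - a⁻¹ • 1)) :
    ∃ B C : End K V, A = B * C ∧ LinearMap.det B = LinearMap.det B₁ * a ∧
      (∀ c : K, c ≠ a → IsUnit (B₁ - c • 1) → IsUnit (B - c • 1)) ∧
      (∀ c : K, c ≠ a⁻¹ → IsUnit (C₁ - c • 1) → IsUnit (C - c • 1)) ∧
      ∀ s : K, ∃ P : End K V, C * P * B = P ∧ LinearMap.det P = LinearMap.det P₁ * s := by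
  set E := splitEquiv φ hv with hE
  let d : LinearMap.ker φ := ⟨A v - v, by simp [hv, hAv]⟩
  let R : K →ₗ[K] LinearMap.ker φ := (a • LinearMap.id).smulRight d
  let T : LinearMap.ker φ →ₗ[K] K := a⁻¹ • (φ ∘ₗ A ∘ₗ (LinearMap.ker φ).subtype)
  set B' := upper B₁ R (a • (1 : End K K)) with hB'
  set C' := lower C₁ T (a⁻¹ • (1 : End K K)) with hC'
  have hEA : ∀ p, E ((B' * C') p) = A (E p) := by
    rintro ⟨w, x⟩
    have h1 : ((B₁ (C₁ w) : LinearMap.ker φ) : V) = A w - φ (A w) • A v := by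
      rw [← Module.End.mul_apply, ← hS, schur_apply]
    simp [hE, splitEquiv, hB', hC', R, T, d, h1]
    match_scalars <;> field_simp <;> ring
  have hdet : ∀ f g : End K V, LinearMap.det (f * g) = LinearMap.det f * LinearMap.det g :=
    fun f g => map_mul LinearMap.det f g
  have hconj : ∀ f : End K (LinearMap.ker φ × K), LinearMap.det (E.conj f) = LinearMap.det f := fun f => by
    rw [LinearEquiv.conj_apply, LinearMap.comp_assoc, LinearMap.det_conj]
  have hmul : ∀ f g, E.conj (f * g) = E.conj f * E.conj g := fun f g => LinearMap.ext fun x => by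
    simp [LinearEquiv.conj_apply]
  have hunit : ∀ (c : K) (f : End K (LinearMap.ker φ × K)), LinearMap.det (f - c • 1) ≠ 0 →
      IsUnit (E.conj f - c • 1) := by
    intro c f hf
    rw [LinearMap.isUnit_iff_isUnit_det, isUnit_iff_ne_zero]
    rwa [← hconj, map_sub, map_smul, Module.End.one_eq_id, LinearEquiv.conj_id] at hf
  have hK1 : ∀ c : K, LinearMap.det (c • (1 : End K K)) = c := fun c => by
    rw [LinearMap.det_smul]; simp
  refine ⟨E.conj B', E.conj C', ?_, ?_, fun c hc hu => hunit c _ ?_, fun c hc hu => hunit c _ ?_,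
    fun s => ?_⟩
  · refine LinearMap.ext fun x => ?_
    rw [← hmul, LinearEquiv.conj_apply]
    simp only [LinearMap.comp_apply, LinearEquiv.coe_coe, hEA, LinearEquiv.apply_symm_apply]
  · rw [hconj, hB', det_upper, hK1]
  · rw [show B' - c • 1 = upper (B₁ - c • 1) R ((a - c) • (1 : End K K)) from LinearMap.ext fun p =>
      Prod.ext (by simp [hB']; abel) (by simp [hB', sub_mul]), det_upper, hK1]
    exact mul_ne_zero (hu.map LinearMap.det).ne_zero (sub_ne_zero.2 hc.symm)
  · rw [show C' - c • 1 = lower (C₁ - c • 1) T ((a⁻¹ - c) • (1 : End K K)) from LinearMap.ext fun p =>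
      Prod.ext (by simp [hC']) (by simp [hC', sub_mul]; abel), det_lower, hK1]
    exact mul_ne_zero (hu.map LinearMap.det).ne_zero (sub_ne_zero.2 hc.symm)
  · obtain ⟨P, hP, hd⟩ := glue_conj (P₀ := s • (1 : End K K)) R T hP₁
      (show (a⁻¹ • 1) * (s • 1) * (a • 1) = s • (1 : End K K) from LinearMap.ext fun x => by
        simp [ha]; field_simp)
      (noHom_of_pow (N := 1) a (by simp) hB) (noHom_of_pow' (N := 1) a⁻¹ (by simp) hC)
    refine ⟨E.conj P, by rw [← hmul, ← hmul, hP], ?_⟩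
    rw [hconj, hd, hK1]

/-- A Schur complement which can be treated further, or a unipotent one. -/
def Fine (A : End K V) : Prop := IsNilpotent (A - 1) ∨ ∀ s : K, A ≠ s • 1

theorem schur_unipotent {A : End K V} (φ : V →ₗ[K] K) {v : V} (hAv : φ (A v) = 1)
    (hφA : ∀ x, φ (A x) = φ x) (h : IsNilpotent (A - 1)) : IsNilpotent (schur A φ hAv - 1) := by
  obtain ⟨k, hk⟩ := h
  refine ⟨k, LinearMap.ext fun w => Subtype.ext ?_⟩
  have e : ∀ (j : ℕ) (x : LinearMap.ker φ),
      ((((schur A φ hAv - 1) ^ j) x : LinearMap.ker φ) : V) = ((A - 1) ^ j) x := by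
    intro j
    induction j with
    | zero => intro x; rfl
    | succ j ihj =>
      intro x
      rw [pow_succ' (schur A φ hAv - 1), pow_succ' (A - 1), Module.End.mul_apply, Module.End.mul_apply,
        ← ihj]
      simp [schur_apply, hφA, LinearMap.mem_ker.1 (((schur A φ hAv - 1) ^ j) x).2]
  rw [e, hk]
  rfl

theorem exists_fine (hK : 4 ≤ Cardinal.mk K) [Nontrivial V] {A : End K V}
    (hdet : LinearMap.det A = 1) (hA : Fine A) :
    ∃ (v : V) (φ : V →ₗ[K] K) (_ : φ v = 1) (hAv : φ (A v) = 1), Fine (schur A φ hAv) := by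
  obtain ⟨x, hx⟩ := exists_ne (0 : V)
  obtain ⟨r, hr, -⟩ := exists_dual_one (p := (⊥ : Submodule K V)) (x := x) (by simpa using hx)
  by_cases hu : IsNilpotent (A - 1)
  · have hrange : LinearMap.range (A - 1) ≠ ⊤ := fun h => by
      obtain ⟨k, hk⟩ := hu
      have hsur : Function.Surjective ((A - 1) ^ k : End K V) := by
        rw [Module.End.coe_pow]; exact (LinearMap.range_eq_top.1 h).iterate k
      obtain ⟨y, hy⟩ := hsur x
      rw [hk] at hy
      exact hx hy.symm
    obtain ⟨v, -, hv0⟩ := SetLike.exists_of_lt (lt_top_iff_ne_top.2 hrange)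
    obtain ⟨φ, hv, hφ⟩ := exists_dual_one hv0
    have hφA : ∀ y, φ (A y) = φ y := fun y => by
      have := hφ ((A - 1) y) ⟨y, rfl⟩
      simpa [sub_eq_zero] using this
    exact ⟨v, φ, hv, (hφA v).trans hv, Or.inl (schur_unipotent φ _ hφA hu)⟩
  have hns := hA.resolve_left hu
  obtain ⟨m, hm⟩ : ∃ m, finrank K V = m + 2 := by
    refine ⟨finrank K V - 2, ?_⟩
    have h0 : 0 < finrank K V := Module.finrank_pos
    by_contra h
    have h1 : finrank K V = 1 := by omega
    obtain ⟨a, ha⟩ := (finrank_eq_one_iff_of_nonzero' x hx).1 h1 (A x)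
    exact hns a (LinearMap.ext fun y => by
      obtain ⟨b, rfl⟩ := (finrank_eq_one_iff_of_nonzero' x hx).1 h1 y
      simp [← ha])
  obtain ⟨v, φ, hv, hAv, -, -, -, -, hS⟩ :=
    exists_reduction hK hm hdet hu hns hx (r := r) (fun h => by simp [h] at hr)
  refine ⟨v, φ, hv, hAv, ?_⟩
  rcases hS with rfl | hS
  · left
    have h1 : finrank K (LinearMap.ker φ) = 1 := by have := finrank_ker hv; omega
    have : Nontrivial (LinearMap.ker φ) := Module.nontrivial_of_finrank_eq_succ h1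
    obtain ⟨y, hy⟩ := exists_ne (0 : LinearMap.ker φ)
    obtain ⟨r', hr', -⟩ :=
      exists_dual_one (p := (⊥ : Submodule K (LinearMap.ker φ))) (x := y) (by simpa using hy)
    obtain ⟨B, C, hBC, hB, hC, -⟩ := split_one h1 _ (det_schur hdet φ hv hAv) hy (r := r')
      (fun h => by simp [h] at hr')
    rw [pow_one, sub_eq_zero] at hB hC
    rw [hBC, hB, hC, one_mul, sub_self]
    exact IsNilpotent.zero
  · exact Or.inr hS.2

/-- Products of two regular unipotent endomorphisms, conjugate up to inversion. -/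
theorem two_regular (hK : 4 ≤ Cardinal.mk K) {A : End K V} (hdet : LinearMap.det A = 1) (hA : Fine A) :
    ∃ B C P : End K V, A = B * C ∧ C * P * B = P ∧ LinearMap.det P ≠ 0 ∧ IsNilpotent (B - 1) ∧
      IsNilpotent (C - 1) := by
  rcases subsingleton_or_nontrivial V with h | h
  · have : Subsingleton (End K V) := ⟨fun f g => LinearMap.ext fun x => Subsingleton.elim _ _⟩
    refine ⟨1, 1, 1, Subsingleton.elim _ _, Subsingleton.elim _ _, ?_, ⟨1, by simp⟩, ⟨1, by simp⟩⟩
    rw [map_one]; exact one_ne_zero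
  obtain ⟨x, hx⟩ := exists_ne (0 : V)
  obtain ⟨r, hr, -⟩ := exists_dual_one (p := (⊥ : Submodule K V)) (x := x) (by simpa using hx)
  obtain ⟨m, hm⟩ : ∃ m, finrank K V = m + 1 :=
    ⟨finrank K V - 1, by have : 0 < finrank K V := Module.finrank_pos; omega⟩
  obtain ⟨B, C, hBC, hB0, hC0, hB, hC⟩ : ∃ B C : End K V, A = B * C ∧ (B - 1) ^ (m + 1) = 0 ∧
      (C - 1) ^ (m + 1) = 0 ∧ (B - 1) ^ m ≠ 0 ∧ (C - 1) ^ m ≠ 0 := by
    by_cases hu : IsNilpotent (A - 1)
    · exact unip_split hK m hm A hu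
    obtain ⟨B, C, h1, h2, h3, h4, w, h5⟩ := split_of_good hK m hm A hdet
      (Or.inr ⟨hu, hA.resolve_left hu⟩) x hx r (fun h => by simp [h] at hr)
    exact ⟨B, C, h1, h2, h3, fun h => h4 (by rw [h, zero_smul]),
      fun h => h5 (by rw [h, zero_smul, map_zero])⟩
  obtain ⟨P, hP, hd⟩ := regular_conj hm hB0 hC0 hB hC
  exact ⟨B, C, P, hBC, hP, hd, ⟨_, hB0⟩, ⟨_, hC0⟩⟩

theorem isUnit_sub_smul {B : End K V} (h : IsNilpotent (B - 1)) {c : K} (hc : c ≠ 1) :
    IsUnit (B - c • 1) := by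
  have h1 : B - c • 1 = algebraMap K (End K V) (1 - c) + (B - 1) := by
    rw [Algebra.algebraMap_eq_smul_one, sub_smul, one_smul]; abel
  rw [h1]
  exact h.isUnit_add_left_of_commute
    ((isUnit_iff_ne_zero.2 (sub_ne_zero.2 hc.symm)).map _) (Algebra.commute_algebraMap_left _ _).symm

/-- Over fields with at least four elements a nonscalar or unipotent endomorphism of determinant
one is a commutator. -/
theorem commD_of_fine (hK : 4 ≤ Cardinal.mk K) (hV : 2 ≤ finrank K V) {A : End K V}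
    (hdet : LinearMap.det A = 1) (hA : Fine A) : CommD A 1 1 := by
  have : Nontrivial V := Module.nontrivial_of_finrank_pos (R := K) (by omega)
  classical
  obtain ⟨a, ha⟩ := exists_notMem_finset hK {0, 1, -1} Finset.card_le_three
  simp only [Finset.mem_insert, Finset.mem_singleton, not_or] at ha
  obtain ⟨ha0, ha1, ha2⟩ := ha
  have hai : a⁻¹ ≠ a := fun h => by
    have h2 : (a - 1) * (a + 1) = 0 := by
      have := mul_inv_cancel₀ ha0
      rw [h] at this
      linear_combination this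
    rcases mul_eq_zero.1 h2 with h3 | h3
    · exact ha1 (sub_eq_zero.1 h3)
    · exact ha2 (eq_neg_of_add_eq_zero_left h3)
  obtain ⟨v, φ, hv, hAv, hS⟩ := exists_fine hK hdet hA
  have hdS := det_schur hdet φ hv hAv
  have : Nontrivial (LinearMap.ker φ) :=
    Module.nontrivial_of_finrank_pos (R := K) (by have := finrank_ker hv; omega)
  obtain ⟨v', φ', hv', hAv', hS'⟩ := exists_fine hK hdS hS
  obtain ⟨B₂, C₂, P₂, hBC, hP₂, hd₂, hB, hC⟩ := two_regular hK (det_schur hdS φ' hv' hAv') hS'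
  obtain ⟨B₁, C₁, hBC₁, hdB₁, hB₁, hC₁, hP₁⟩ := level φ' hv' hAv' hBC hP₂ (inv_ne_zero ha0)
    (isUnit_sub_smul hB (by rwa [ne_eq, inv_eq_one])) (isUnit_sub_smul hC (by simpa using ha1))
  obtain ⟨P₁, hP₁, hdP₁⟩ := hP₁ (LinearMap.det P₂)⁻¹
  obtain ⟨B, C, hBC', hdB, -, -, hP⟩ := level φ hv hAv hBC₁ hP₁ ha0
    (hB₁ a hai.symm (isUnit_sub_smul hB ha1))
    (hC₁ a⁻¹ (by simpa using hai) (isUnit_sub_smul hC (by rwa [ne_eq, inv_eq_one])))
  obtain ⟨P, hP, hdP⟩ := hP 1
  have := commD_of_conj hBC' hP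
  rwa [hdB, hdB₁, det_of_unipotent hB, one_mul, inv_mul_cancel₀ ha0, hdP, hdP₁, mul_inv_cancel₀ hd₂,
    one_mul] at this

end CfsgLib.SLComm
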