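import Cfsg.Agent.Lib.SLComm.Basic

/-!
# Scalar matrices of determinant one
-/

set_option autoImplicit false
set_option linter.unusedSectionVars false

namespace CfsgLib.SLComm

open Module Matrix

universe u

variable {K : Type u} [Field K]

theorem commD_toLin' {ι : Type} [Fintype ι] [DecidableEq ι] {A X Y : Matrix ι ι K} {dx dy : K}
    (hX : X.det = dx) (hY : Y.det = dy) (h : A * Y * X = X * Y) :
    CommD (Matrix.toLin' A) dx dy :=
  ⟨Matrix.toLin' X, Matrix.toLin' Y, by rw [LinearMap.det_toLin', hX], by rw [LinearMap.det_toLin', hY],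
    by simp only [Module.End.mul_eq_comp, ← Matrix.toLin'_mul, h]⟩

theorem scalar_odd {n : ℕ} (hn : Odd n) {ζ : K} (hζ : ζ ^ n = 1) :
    CommD (Matrix.toLin' (ζ • (1 : Matrix (Fin n) (Fin n) K))) 1 1 := by
  obtain ⟨m, rfl⟩ := hn
  refine commD_toLin' (X := (finRotate (2 * m + 1)).permMatrix K)
    (Y := Matrix.diagonal fun i => ζ ^ i.val) ?_ ?_ ?_
  · rw [det_permutation, sign_finRotate]
    simp
  · rw [det_diagonal, Finset.prod_pow_eq_pow_sum, Fin.sum_univ_eq_sum_range (fun i => i),
      Finset.sum_range_id, show (2 * m + 1) * (2 * m + 1 - 1) / 2 = (2 * m + 1) * m by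
        rw [Nat.add_sub_cancel, ← mul_assoc, mul_comm (2 * m + 1) 2, mul_assoc,
          Nat.mul_div_cancel_left _ two_pos],
      pow_mul, hζ, one_pow]
  · ext i j
    simp only [Matrix.smul_mul, Matrix.one_mul, Matrix.smul_apply, diagonal_mul, mul_diagonal,
      Equiv.Perm.permMatrix, PEquiv.toMatrix_apply, Equiv.toPEquiv_apply, smul_eq_mul, Option.mem_def,
      Option.some.injEq]
    split_ifs with h
    · subst h
      rw [finRotate_apply, mul_one, one_mul, Fin.val_add_one]
      split_ifs with h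
      · subst h
        rw [Fin.val_last, ← pow_succ', hζ, pow_zero]
      · rw [pow_succ']
    · simp

theorem exists_sq_sub [Fintype K] {η : K} (hη : η ≠ 0) {c : K} :
    ∃ a b : K, a ^ 2 - η * b ^ 2 = c := by
  by_cases h2 : ringChar K = 2
  · obtain ⟨a, ha⟩ := FiniteField.isSquare_of_char_two h2 c
    exact ⟨a, 0, by rw [ha]; ring⟩
  obtain ⟨a, b, hab⟩ := FiniteField.exists_root_sum_quadratic
    (f := Polynomial.X ^ 2 - Polynomial.C c) (g := Polynomial.C (-η) * Polynomial.X ^ 2)
    (Polynomial.degree_X_pow_sub_C (by norm_num) _)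
    (by rw [Polynomial.degree_C_mul_X_pow 2 (neg_ne_zero.2 hη)]; rfl)
    (FiniteField.odd_card_of_char_ne_two h2)
  simp only [Polynomial.eval_sub, Polynomial.eval_pow, Polynomial.eval_X, Polynomial.eval_C,
    Polynomial.eval_mul] at hab
  exact ⟨a, b, by linear_combination hab⟩

theorem scalar_even [Fintype K] {g : ℕ} {ζ : K} (hζ : ζ ^ (2 * (g + 1)) = 1) :
    CommD (Matrix.toLin' (ζ • (1 : Matrix (Fin 2 × Fin (g + 1)) (Fin 2 × Fin (g + 1)) K))) 1 1 := by
  have hζ0 : ζ ≠ 0 := fun h => by simp [h, zero_pow] at hζ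
  obtain ⟨η, hη, hdy⟩ : ∃ η : K, η ≠ 0 ∧ (-η) ^ (g + 1) * ζ ^ ((g + 1) * g) = 1 := by
    rcases Nat.even_or_odd (g + 1) with ⟨j, hj⟩ | ⟨j, hj⟩
    · refine ⟨ζ, hζ0, ?_⟩
      rw [Even.neg_pow ⟨j, hj⟩, ← pow_add,
        show g + 1 + (g + 1) * g = 2 * (g + 1) * j by
          rw [show 2 * (g + 1) * j = (g + 1) * (2 * j) by ring, show 2 * j = g + 1 by omega]; ring,
        pow_mul, hζ, one_pow]
    · refine ⟨-1, by simp, ?_⟩
      rw [neg_neg, one_pow, one_mul, show g = 2 * j by omega,
        show (2 * j + 1) * (2 * j) = 2 * (2 * j + 1) * j by ring, pow_mul,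
        show 2 * (2 * j + 1) = 2 * (g + 1) by omega, hζ, one_pow]
  obtain ⟨a, b, hab⟩ := exists_sq_sub hη (c := (ζ ^ (g + 1))⁻¹)
  let Y : Fin (g + 1) → Matrix (Fin 2) (Fin 2) K := fun k => !![0, η * ζ ^ (2 * k.val); 1, 0]
  let G : Fin (g + 1) → Matrix (Fin 2) (Fin 2) K := fun k =>
    if k = 0 then !![1, 0; 0, ζ] * !![a, η * b; b, a] else !![1, 0; 0, ζ]
  let σ : Equiv.Perm (Fin 2 × Fin (g + 1)) := Equiv.prodCongrRight fun _ : Fin 2 => finRotate (g + 1)
  refine commD_toLin'
    (X := σ.permMatrix K * blockDiagonal G)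
    (Y := blockDiagonal Y) ?_ ?_ ?_
  · rw [det_mul, det_permutation, show σ = Equiv.prodCongrRight fun _ : Fin 2 => finRotate (g + 1) from rfl,
      Equiv.Perm.sign_prodCongrRight, det_blockDiagonal,
      ← Finset.mul_prod_erase _ _ (Finset.mem_univ (0 : Fin (g + 1)))]
    rw [Finset.prod_congr rfl (g := fun _ => ζ) fun k hk => by
      simp [G, (Finset.mem_erase.1 hk).1, det_fin_two]]
    simp [G, det_fin_two, Fin.prod_univ_two]
    linear_combination (ζ ^ (g + 1)) * hab + mul_inv_cancel₀ (pow_ne_zero (g + 1) hζ0)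
  · rw [det_blockDiagonal]
    simp only [Y, det_fin_two_of, zero_mul, zero_sub, mul_one]
    rw [Finset.prod_congr rfl (g := fun k : Fin (g + 1) => (-η) * (ζ ^ 2) ^ k.val)
        fun k _ => by rw [← pow_mul]; ring,
      Finset.prod_mul_distrib, Finset.prod_const, Finset.prod_pow_eq_pow_sum,
      Fin.sum_univ_eq_sum_range (fun i => i), ← pow_mul, mul_comm 2, Finset.sum_range_id_mul_two,
      Finset.card_univ, Fintype.card_fin, Nat.add_sub_cancel, hdy]
  · have hY : blockDiagonal Y * σ.permMatrix K =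
        σ.permMatrix K *
          blockDiagonal fun k => Y ((finRotate (g + 1)).symm k) := by
      ext ⟨i, k⟩ ⟨j, l⟩
      simp [σ, Equiv.Perm.permMatrix, PEquiv.mul_toMatrix_toPEquiv, PEquiv.toMatrix_toPEquiv_mul,
        blockDiagonal_apply, Equiv.eq_symm_apply]
      by_cases h : k + 1 = l
      · subst h; simp
      · rw [if_neg h, if_neg fun e => h (by rw [e, sub_add_cancel])]
    have key : ∀ k, ζ • (Y k * G (k + 1)) = G (k + 1) * Y (k + 1) := by
      intro k
      have hk : ζ ^ (2 * (k + 1).val) = ζ ^ 2 * ζ ^ (2 * k.val) := by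
        rw [Fin.val_add_one]
        split_ifs with h
        · subst h; rw [mul_zero, pow_zero, ← pow_add, Fin.val_last, ← hζ]; ring
        · ring
      by_cases h : k + 1 = 0
      · have h0 : ζ ^ 2 * ζ ^ (2 * k.val) = 1 := by rw [← hk, h]; simp
        simp only [G, Y, h, if_true]
        ext i j
        fin_cases i <;> fin_cases j <;> simp [Matrix.mul_apply, Fin.sum_univ_two] <;>
          first | linear_combination (η * b) * h0 | linear_combination (η * a) * h0 | ring
      · simp only [G, Y, if_neg h, hk]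
        ext i j
        fin_cases i <;> fin_cases j <;> simp [Matrix.mul_apply, Fin.sum_univ_two] <;> ring
    simp only [Matrix.smul_mul, Matrix.one_mul]
    rw [← mul_assoc, hY, mul_assoc, mul_assoc, ← blockDiagonal_mul, ← blockDiagonal_mul,
      ← Matrix.mul_smul, ← blockDiagonal_smul]
    congr 2
    funext l
    obtain ⟨k, rfl⟩ := (finRotate (g + 1)).surjective l
    rw [Pi.smul_apply, Equiv.symm_apply_apply, finRotate_apply]
    exact key k

/-- A scalar matrix of determinant one is a commutator. -/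
theorem scalar_comm [Fintype K] {n : ℕ} (hn : n ≠ 0) {ζ : K} (hζ : ζ ^ n = 1) :
    CommD (Matrix.toLin' (ζ • (1 : Matrix (Fin n) (Fin n) K))) 1 1 := by
  rcases Nat.even_or_odd n with ⟨h, rfl⟩ | h
  · obtain ⟨g, rfl⟩ : ∃ g, h = g + 1 := ⟨h - 1, by omega⟩
    refine (scalar_even (g := g) (ζ := ζ) (by rwa [two_mul])).congr
      (LinearEquiv.funCongrLeft K K ((finCongr (two_mul _).symm).trans finProdFinEquiv.symm)) fun x => ?_
    ext i
    simp
  · exact scalar_odd h hζ

end CfsgLib.SLComm
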