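import Cfsg.Agent.Lib.SLComm.SmallField
import Cfsg.Agent.Lib.SLComm.LargeField
import Cfsg.Agent.Lib.SLComm.Scalar

/-!
# Every element of the special linear group is a commutator
-/

set_option autoImplicit false

namespace CfsgLib.SLComm

open Module

universe u

theorem exists_matrices {K : Type u} [Field K] {n : ℕ} {M : Matrix (Fin n) (Fin n) K}
    (h : CommD (Matrix.toLin' M) (1 : K) 1) :
    ∃ X Y : Matrix (Fin n) (Fin n) K, X.det = 1 ∧ Y.det = 1 ∧ M * Y * X = X * Y := by
  obtain ⟨X, Y, hX, hY, h⟩ := h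
  refine ⟨LinearMap.toMatrix' X, LinearMap.toMatrix' Y, by rw [LinearMap.det_toMatrix', hX],
    by rw [LinearMap.det_toMatrix', hY], ?_⟩
  have := congrArg LinearMap.toMatrix' h
  rwa [Module.End.mul_eq_comp, LinearMap.toMatrix'_comp, Module.End.mul_eq_comp,
    LinearMap.toMatrix'_comp, LinearMap.toMatrix'_toLin', Module.End.mul_eq_comp,
    LinearMap.toMatrix'_comp] at this

theorem transport {K : Type u} [Field K] {L : Type} [Field L] (e : L ≃+* K) {n : ℕ}
    {M : Matrix (Fin n) (Fin n) K}
    (h : ∃ X Y : Matrix (Fin n) (Fin n) L, X.det = 1 ∧ Y.det = 1 ∧ M.map e.symm * Y * X = X * Y) :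
    ∃ X Y : Matrix (Fin n) (Fin n) K, X.det = 1 ∧ Y.det = 1 ∧ M * Y * X = X * Y := by
  obtain ⟨X, Y, hX, hY, h⟩ := h
  refine ⟨X.map e, Y.map e, ?_, ?_, ?_⟩
  · exact (RingEquiv.map_det e X).symm.trans (by rw [hX, map_one])
  · exact (RingEquiv.map_det e Y).symm.trans (by rw [hY, map_one])
  · have h2 := congrArg (fun Z : Matrix (Fin n) (Fin n) L => Z.map e) h
    simp only [Matrix.map_mul, Matrix.map_map] at h2
    simpa [Function.comp_def] using h2

/-- Matrices of determinant one are commutators. -/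
theorem exists_comm {K : Type u} [Field K] [Fintype K] {n : ℕ} (hn : 2 ≤ n)
    (hex : n = 2 → 4 ≤ Fintype.card K) {M : Matrix (Fin n) (Fin n) K} (hM : M.det = 1) :
    ∃ X Y : Matrix (Fin n) (Fin n) K, X.det = 1 ∧ Y.det = 1 ∧ M * Y * X = X * Y := by
  have h2 : 2 ≤ Fintype.card K := Fintype.one_lt_card
  by_cases h4 : 4 ≤ Fintype.card K
  · have hK : 4 ≤ Cardinal.mk K := by rw [Cardinal.mk_fintype]; exact_mod_cast h4
    have hdet : LinearMap.det (Matrix.toLin' M) = 1 := by rw [LinearMap.det_toLin', hM]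
    by_cases hs : ∃ s : K, Matrix.toLin' M = s • 1
    · obtain ⟨s, hs⟩ := hs
      have hMs : M = s • (1 : Matrix (Fin n) (Fin n) K) := Matrix.toLin'.injective (by
        rw [hs, map_smul, Matrix.toLin'_one]; rfl)
      rw [hMs, Matrix.det_smul, Matrix.det_one, mul_one, Fintype.card_fin] at hM
      exact exists_matrices (hMs ▸ scalar_comm (by omega) hM)
    · push Not at hs
      exact exists_matrices (commD_of_fine hK (by simpa using hn) hdet (Or.inr hs))
  have hn3 : 3 ≤ n := by
    by_contra h
    exact h4 (hex (by omega))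
  obtain hc | hc : Fintype.card K = 2 ∨ Fintype.card K = 3 := by omega
  · let e := ZMod.ringEquivOfPrime K Nat.prime_two hc
    exact transport e (exists_matrices (commD_two hn3 _ (by
      rw [LinearMap.det_toLin']; exact (RingEquiv.map_det e.symm M).symm.trans (by rw [hM, map_one]))))
  · let e := ZMod.ringEquivOfPrime K Nat.prime_three hc
    exact transport e (exists_matrices (commD_three hn3 _ (by
      rw [LinearMap.det_toLin']; exact (RingEquiv.map_det e.symm M).symm.trans (by rw [hM, map_one]))))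

end CfsgLib.SLComm
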