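import Cfsg.Agent.Lib.SLComm.Companion

/-!
# Witnesses for the small blocks over the fields with two and three elements
-/

set_option autoImplicit false

namespace CfsgLib.SLComm

open Matrix

/-- Witness tables. -/
def Wit {K : Type} [CommRing K] {n : ℕ} (A : Matrix (Fin n) (Fin n) K) (dx dy : K) : Prop :=
  ∃ X Y : Matrix (Fin n) (Fin n) K, X.det = dx ∧ Y.det = dy ∧ A * Y * X = X * Y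

/-- The block diagonal matrix of two companion blocks. -/
def pairM {K : Type} [CommRing K] {a b : ℕ} (c : Fin (a + 1) → K) (d : Fin (b + 1) → K) :
    Matrix (Fin (a + 1 + (b + 1))) (Fin (a + 1 + (b + 1))) K :=
  (Matrix.fromBlocks (compM c) 0 0 (compM d)).submatrix finSumFinEquiv.symm finSumFinEquiv.symm

theorem wit3_20 (dx dy : ZMod 3) (hx : dx ≠ 0) (hy : dy ≠ 0) (h : dx ≠ 1 ∨ dy ≠ 1) :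
    Wit (compM ((![2, 0]) : Fin 2 → ZMod 3)) dx dy := by
  have key : ∀ dx dy : ZMod 3, dx ≠ 0 → dy ≠ 0 → dx ≠ 1 ∨ dy ≠ 1 → ∃ p ∈ [
      ((!![2, 2; 2, 1] : Matrix (Fin 2) (Fin 2) (ZMod 3)),
        (!![1, 0; 0, 2] : Matrix (Fin 2) (Fin 2) (ZMod 3))),
      ((!![2, 0; 0, 1] : Matrix (Fin 2) (Fin 2) (ZMod 3)),
        (!![1, 2; 2, 2] : Matrix (Fin 2) (Fin 2) (ZMod 3))),
      ((!![0, 2; 2, 0] : Matrix (Fin 2) (Fin 2) (ZMod 3)),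
        (!![2, 2; 1, 2] : Matrix (Fin 2) (Fin 2) (ZMod 3)))],
      p.1.det = dx ∧ p.2.det = dy ∧ (compM ((![2, 0]) : Fin 2 → ZMod 3)) * p.2 * p.1 = p.1 * p.2 := by decide +kernel
  obtain ⟨p, -, hp⟩ := key dx dy hx hy h
  exact ⟨p.1, p.2, hp⟩

theorem wit3_21 (dx dy : ZMod 3) (hx : dx ≠ 0) (hy : dy ≠ 0) (h : dx ≠ 1 ∨ dy ≠ 1) :
    Wit (compM ((![2, 1]) : Fin 2 → ZMod 3)) dx dy := by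
  have key : ∀ dx dy : ZMod 3, dx ≠ 0 → dy ≠ 0 → dx ≠ 1 ∨ dy ≠ 1 → ∃ p ∈ [
      ((!![1, 0; 1, 1] : Matrix (Fin 2) (Fin 2) (ZMod 3)),
        (!![2, 1; 2, 2] : Matrix (Fin 2) (Fin 2) (ZMod 3))),
      ((!![1, 1; 1, 0] : Matrix (Fin 2) (Fin 2) (ZMod 3)),
        (!![2, 1; 2, 0] : Matrix (Fin 2) (Fin 2) (ZMod 3))),
      ((!![2, 0; 1, 1] : Matrix (Fin 2) (Fin 2) (ZMod 3)),
        (!![0, 1; 1, 1] : Matrix (Fin 2) (Fin 2) (ZMod 3)))],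
      p.1.det = dx ∧ p.2.det = dy ∧ (compM ((![2, 1]) : Fin 2 → ZMod 3)) * p.2 * p.1 = p.1 * p.2 := by decide +kernel
  obtain ⟨p, -, hp⟩ := key dx dy hx hy h
  exact ⟨p.1, p.2, hp⟩

theorem wit3_22 (dx dy : ZMod 3) (hx : dx ≠ 0) (hy : dy ≠ 0) (h : dx ≠ 1 ∨ dy ≠ 1) :
    Wit (compM ((![2, 2]) : Fin 2 → ZMod 3)) dx dy := by
  have key : ∀ dx dy : ZMod 3, dx ≠ 0 → dy ≠ 0 → dx ≠ 1 ∨ dy ≠ 1 → ∃ p ∈ [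
      ((!![1, 2; 1, 0] : Matrix (Fin 2) (Fin 2) (ZMod 3)),
        (!![2, 0; 2, 1] : Matrix (Fin 2) (Fin 2) (ZMod 3))),
      ((!![0, 2; 2, 0] : Matrix (Fin 2) (Fin 2) (ZMod 3)),
        (!![0, 2; 1, 2] : Matrix (Fin 2) (Fin 2) (ZMod 3))),
      ((!![1, 2; 0, 2] : Matrix (Fin 2) (Fin 2) (ZMod 3)),
        (!![0, 1; 1, 0] : Matrix (Fin 2) (Fin 2) (ZMod 3)))],
      p.1.det = dx ∧ p.2.det = dy ∧ (compM ((![2, 2]) : Fin 2 → ZMod 3)) * p.2 * p.1 = p.1 * p.2 := by decide +kernel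
  obtain ⟨p, -, hp⟩ := key dx dy hx hy h
  exact ⟨p.1, p.2, hp⟩

theorem wit3_2_2 (dx dy : ZMod 3) (hx : dx ≠ 0) (hy : dy ≠ 0) (h : dx ≠ 1 ∨ dy ≠ 1) :
    Wit (pairM ((![2]) : Fin 1 → ZMod 3) ((![2]) : Fin 1 → ZMod 3)) dx dy := by
  have key : ∀ dx dy : ZMod 3, dx ≠ 0 → dy ≠ 0 → dx ≠ 1 ∨ dy ≠ 1 → ∃ p ∈ [
      ((!![2, 2; 2, 1] : Matrix (Fin 2) (Fin 2) (ZMod 3)),
        (!![1, 0; 1, 2] : Matrix (Fin 2) (Fin 2) (ZMod 3))),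
      ((!![2, 2; 0, 1] : Matrix (Fin 2) (Fin 2) (ZMod 3)),
        (!![1, 1; 1, 2] : Matrix (Fin 2) (Fin 2) (ZMod 3))),
      ((!![2, 1; 0, 1] : Matrix (Fin 2) (Fin 2) (ZMod 3)),
        (!![1, 0; 2, 2] : Matrix (Fin 2) (Fin 2) (ZMod 3)))],
      p.1.det = dx ∧ p.2.det = dy ∧ (pairM ((![2]) : Fin 1 → ZMod 3) ((![2]) : Fin 1 → ZMod 3)) * p.2 * p.1 = p.1 * p.2 := by decide +kernel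
  obtain ⟨p, -, hp⟩ := key dx dy hx hy h
  exact ⟨p.1, p.2, hp⟩

theorem wit3_2_10 (dx dy : ZMod 3) (hx : dx ≠ 0) (hy : dy ≠ 0) :
    Wit (pairM ((![2]) : Fin 1 → ZMod 3) ((![1, 0]) : Fin 2 → ZMod 3)) dx dy := by
  have key : ∀ dx dy : ZMod 3, dx ≠ 0 → dy ≠ 0 → ∃ p ∈ [
      ((!![1, 1, 0; 1, 0, 2; 2, 1, 1] : Matrix (Fin 3) (Fin 3) (ZMod 3)),
        (!![0, 0, 1; 1, 2, 1; 1, 0, 2] : Matrix (Fin 3) (Fin 3) (ZMod 3))),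
      ((!![0, 1, 2; 2, 1, 0; 0, 1, 0] : Matrix (Fin 3) (Fin 3) (ZMod 3)),
        (!![2, 0, 0; 1, 2, 2; 1, 1, 0] : Matrix (Fin 3) (Fin 3) (ZMod 3))),
      ((!![1, 0, 0; 2, 0, 1; 1, 1, 0] : Matrix (Fin 3) (Fin 3) (ZMod 3)),
        (!![1, 1, 2; 2, 2, 0; 2, 0, 2] : Matrix (Fin 3) (Fin 3) (ZMod 3))),
      ((!![0, 2, 1; 1, 2, 2; 2, 2, 2] : Matrix (Fin 3) (Fin 3) (ZMod 3)),
        (!![0, 2, 0; 0, 0, 1; 1, 2, 0] : Matrix (Fin 3) (Fin 3) (ZMod 3)))],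
      p.1.det = dx ∧ p.2.det = dy ∧ (pairM ((![2]) : Fin 1 → ZMod 3) ((![1, 0]) : Fin 2 → ZMod 3)) * p.2 * p.1 = p.1 * p.2 := by decide +kernel
  obtain ⟨p, -, hp⟩ := key dx dy hx hy
  exact ⟨p.1, p.2, hp⟩

theorem wit3_2_11 (dx dy : ZMod 3) (hx : dx ≠ 0) (hy : dy ≠ 0) :
    Wit (pairM ((![2]) : Fin 1 → ZMod 3) ((![1, 1]) : Fin 2 → ZMod 3)) dx dy := by
  have key : ∀ dx dy : ZMod 3, dx ≠ 0 → dy ≠ 0 → ∃ p ∈ [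
      ((!![2, 1, 0; 1, 0, 2; 0, 2, 0] : Matrix (Fin 3) (Fin 3) (ZMod 3)),
        (!![0, 2, 1; 1, 0, 0; 0, 0, 1] : Matrix (Fin 3) (Fin 3) (ZMod 3))),
      ((!![2, 1, 0; 2, 0, 2; 0, 2, 0] : Matrix (Fin 3) (Fin 3) (ZMod 3)),
        (!![0, 1, 2; 1, 0, 0; 0, 0, 1] : Matrix (Fin 3) (Fin 3) (ZMod 3))),
      ((!![2, 2, 1; 1, 0, 0; 2, 0, 2] : Matrix (Fin 3) (Fin 3) (ZMod 3)),
        (!![1, 1, 1; 0, 2, 0; 2, 1, 1] : Matrix (Fin 3) (Fin 3) (ZMod 3))),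
      ((!![1, 0, 1; 2, 2, 0; 1, 1, 1] : Matrix (Fin 3) (Fin 3) (ZMod 3)),
        (!![2, 1, 2; 1, 0, 0; 1, 1, 0] : Matrix (Fin 3) (Fin 3) (ZMod 3)))],
      p.1.det = dx ∧ p.2.det = dy ∧ (pairM ((![2]) : Fin 1 → ZMod 3) ((![1, 1]) : Fin 2 → ZMod 3)) * p.2 * p.1 = p.1 * p.2 := by decide +kernel
  obtain ⟨p, -, hp⟩ := key dx dy hx hy
  exact ⟨p.1, p.2, hp⟩

theorem wit3_2_12 (dx dy : ZMod 3) (hx : dx ≠ 0) (hy : dy ≠ 0) :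
    Wit (pairM ((![2]) : Fin 1 → ZMod 3) ((![1, 2]) : Fin 2 → ZMod 3)) dx dy := by
  have key : ∀ dx dy : ZMod 3, dx ≠ 0 → dy ≠ 0 → ∃ p ∈ [
      ((!![2, 2, 2; 2, 2, 0; 2, 0, 2] : Matrix (Fin 3) (Fin 3) (ZMod 3)),
        (!![1, 0, 1; 2, 0, 0; 1, 2, 0] : Matrix (Fin 3) (Fin 3) (ZMod 3))),
      ((!![1, 0, 1; 0, 0, 2; 0, 1, 1] : Matrix (Fin 3) (Fin 3) (ZMod 3)),
        (!![0, 2, 2; 1, 1, 1; 0, 2, 1] : Matrix (Fin 3) (Fin 3) (ZMod 3))),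
      ((!![1, 0, 2; 0, 2, 1; 1, 2, 1] : Matrix (Fin 3) (Fin 3) (ZMod 3)),
        (!![0, 1, 2; 1, 1, 1; 2, 1, 2] : Matrix (Fin 3) (Fin 3) (ZMod 3))),
      ((!![2, 1, 2; 0, 0, 1; 0, 2, 2] : Matrix (Fin 3) (Fin 3) (ZMod 3)),
        (!![2, 2, 2; 1, 1, 2; 0, 2, 1] : Matrix (Fin 3) (Fin 3) (ZMod 3)))],
      p.1.det = dx ∧ p.2.det = dy ∧ (pairM ((![2]) : Fin 1 → ZMod 3) ((![1, 2]) : Fin 2 → ZMod 3)) * p.2 * p.1 = p.1 * p.2 := by decide +kernel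
  obtain ⟨p, -, hp⟩ := key dx dy hx hy
  exact ⟨p.1, p.2, hp⟩

theorem wit3_10_2 (dx dy : ZMod 3) (hx : dx ≠ 0) (hy : dy ≠ 0) :
    Wit (pairM ((![1, 0]) : Fin 2 → ZMod 3) ((![2]) : Fin 1 → ZMod 3)) dx dy := by
  have key : ∀ dx dy : ZMod 3, dx ≠ 0 → dy ≠ 0 → ∃ p ∈ [
      ((!![2, 2, 1; 1, 2, 0; 1, 1, 1] : Matrix (Fin 3) (Fin 3) (ZMod 3)),
        (!![1, 1, 1; 0, 2, 2; 2, 0, 2] : Matrix (Fin 3) (Fin 3) (ZMod 3))),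
      ((!![1, 0, 1; 2, 2, 2; 2, 1, 1] : Matrix (Fin 3) (Fin 3) (ZMod 3)),
        (!![0, 1, 1; 2, 2, 0; 0, 0, 2] : Matrix (Fin 3) (Fin 3) (ZMod 3))),
      ((!![0, 1, 1; 1, 0, 2; 0, 0, 1] : Matrix (Fin 3) (Fin 3) (ZMod 3)),
        (!![0, 2, 2; 1, 2, 1; 1, 2, 2] : Matrix (Fin 3) (Fin 3) (ZMod 3))),
      ((!![2, 1, 1; 1, 1, 0; 0, 1, 1] : Matrix (Fin 3) (Fin 3) (ZMod 3)),
        (!![1, 0, 2; 1, 0, 1; 2, 2, 0] : Matrix (Fin 3) (Fin 3) (ZMod 3)))],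
      p.1.det = dx ∧ p.2.det = dy ∧ (pairM ((![1, 0]) : Fin 2 → ZMod 3) ((![2]) : Fin 1 → ZMod 3)) * p.2 * p.1 = p.1 * p.2 := by decide +kernel
  obtain ⟨p, -, hp⟩ := key dx dy hx hy
  exact ⟨p.1, p.2, hp⟩

theorem wit3_10_10 (dx dy : ZMod 3) (hx : dx ≠ 0) (hy : dy ≠ 0) :
    Wit (pairM ((![1, 0]) : Fin 2 → ZMod 3) ((![1, 0]) : Fin 2 → ZMod 3)) dx dy := by
  have key : ∀ dx dy : ZMod 3, dx ≠ 0 → dy ≠ 0 → ∃ p ∈ [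
      ((!![1, 0, 0, 0; 0, 0, 0, 2; 2, 1, 1, 2; 2, 2, 1, 1] : Matrix (Fin 4) (Fin 4) (ZMod 3)),
        (!![0, 1, 0, 2; 0, 0, 2, 1; 1, 2, 2, 2; 2, 2, 1, 2] : Matrix (Fin 4) (Fin 4) (ZMod 3))),
      ((!![0, 1, 0, 2; 2, 1, 1, 1; 2, 0, 0, 2; 0, 2, 2, 0] : Matrix (Fin 4) (Fin 4) (ZMod 3)),
        (!![2, 2, 1, 2; 0, 1, 0, 2; 1, 1, 0, 1; 1, 2, 1, 1] : Matrix (Fin 4) (Fin 4) (ZMod 3))),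
      ((!![2, 2, 0, 0; 0, 1, 0, 0; 0, 0, 0, 2; 1, 1, 1, 2] : Matrix (Fin 4) (Fin 4) (ZMod 3)),
        (!![1, 2, 2, 2; 1, 0, 2, 2; 1, 1, 1, 2; 2, 1, 0, 0] : Matrix (Fin 4) (Fin 4) (ZMod 3))),
      ((!![2, 1, 0, 1; 2, 0, 0, 1; 0, 1, 2, 2; 0, 2, 2, 0] : Matrix (Fin 4) (Fin 4) (ZMod 3)),
        (!![1, 0, 2, 1; 1, 2, 2, 2; 0, 1, 2, 2; 0, 2, 2, 0] : Matrix (Fin 4) (Fin 4) (ZMod 3)))],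
      p.1.det = dx ∧ p.2.det = dy ∧ (pairM ((![1, 0]) : Fin 2 → ZMod 3) ((![1, 0]) : Fin 2 → ZMod 3)) * p.2 * p.1 = p.1 * p.2 := by decide +kernel
  obtain ⟨p, -, hp⟩ := key dx dy hx hy
  exact ⟨p.1, p.2, hp⟩

theorem wit3_10_11 (dx dy : ZMod 3) (hx : dx ≠ 0) (hy : dy ≠ 0) :
    Wit (pairM ((![1, 0]) : Fin 2 → ZMod 3) ((![1, 1]) : Fin 2 → ZMod 3)) dx dy := by
  have key : ∀ dx dy : ZMod 3, dx ≠ 0 → dy ≠ 0 → ∃ p ∈ [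
      ((!![1, 1, 2, 0; 2, 0, 1, 2; 1, 1, 1, 2; 2, 1, 1, 0] : Matrix (Fin 4) (Fin 4) (ZMod 3)),
        (!![1, 2, 1, 0; 0, 2, 0, 2; 2, 2, 0, 1; 1, 1, 0, 1] : Matrix (Fin 4) (Fin 4) (ZMod 3))),
      ((!![2, 1, 0, 1; 2, 2, 0, 2; 1, 1, 2, 1; 2, 1, 0, 2] : Matrix (Fin 4) (Fin 4) (ZMod 3)),
        (!![1, 2, 2, 0; 0, 2, 2, 1; 2, 1, 0, 0; 0, 1, 1, 1] : Matrix (Fin 4) (Fin 4) (ZMod 3))),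
      ((!![1, 0, 1, 0; 1, 1, 2, 1; 1, 1, 1, 1; 1, 1, 1, 2] : Matrix (Fin 4) (Fin 4) (ZMod 3)),
        (!![2, 1, 1, 0; 0, 1, 2, 0; 1, 2, 0, 0; 0, 2, 2, 2] : Matrix (Fin 4) (Fin 4) (ZMod 3))),
      ((!![2, 1, 0, 0; 1, 2, 2, 0; 2, 0, 0, 1; 2, 2, 2, 1] : Matrix (Fin 4) (Fin 4) (ZMod 3)),
        (!![1, 1, 1, 0; 1, 1, 0, 0; 1, 0, 2, 2; 0, 0, 0, 1] : Matrix (Fin 4) (Fin 4) (ZMod 3)))],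
      p.1.det = dx ∧ p.2.det = dy ∧ (pairM ((![1, 0]) : Fin 2 → ZMod 3) ((![1, 1]) : Fin 2 → ZMod 3)) * p.2 * p.1 = p.1 * p.2 := by decide +kernel
  obtain ⟨p, -, hp⟩ := key dx dy hx hy
  exact ⟨p.1, p.2, hp⟩

theorem wit3_10_12 (dx dy : ZMod 3) (hx : dx ≠ 0) (hy : dy ≠ 0) :
    Wit (pairM ((![1, 0]) : Fin 2 → ZMod 3) ((![1, 2]) : Fin 2 → ZMod 3)) dx dy := by
  have key : ∀ dx dy : ZMod 3, dx ≠ 0 → dy ≠ 0 → ∃ p ∈ [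
      ((!![2, 2, 2, 2; 2, 2, 1, 1; 2, 0, 2, 1; 1, 2, 2, 0] : Matrix (Fin 4) (Fin 4) (ZMod 3)),
        (!![0, 0, 1, 1; 0, 2, 2, 1; 1, 2, 1, 1; 2, 2, 0, 2] : Matrix (Fin 4) (Fin 4) (ZMod 3))),
      ((!![0, 0, 0, 1; 1, 1, 1, 1; 0, 0, 1, 1; 1, 2, 1, 2] : Matrix (Fin 4) (Fin 4) (ZMod 3)),
        (!![1, 0, 0, 1; 0, 1, 2, 2; 0, 2, 0, 2; 0, 2, 2, 1] : Matrix (Fin 4) (Fin 4) (ZMod 3))),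
      ((!![2, 1, 0, 1; 1, 2, 1, 2; 0, 0, 1, 2; 0, 2, 0, 0] : Matrix (Fin 4) (Fin 4) (ZMod 3)),
        (!![1, 0, 2, 2; 1, 2, 1, 0; 0, 1, 2, 0; 1, 0, 1, 0] : Matrix (Fin 4) (Fin 4) (ZMod 3))),
      ((!![1, 2, 0, 0; 0, 1, 1, 0; 1, 2, 2, 2; 0, 2, 2, 1] : Matrix (Fin 4) (Fin 4) (ZMod 3)),
        (!![1, 2, 2, 0; 2, 2, 0, 0; 1, 0, 0, 1; 1, 1, 2, 2] : Matrix (Fin 4) (Fin 4) (ZMod 3)))],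
      p.1.det = dx ∧ p.2.det = dy ∧ (pairM ((![1, 0]) : Fin 2 → ZMod 3) ((![1, 2]) : Fin 2 → ZMod 3)) * p.2 * p.1 = p.1 * p.2 := by decide +kernel
  obtain ⟨p, -, hp⟩ := key dx dy hx hy
  exact ⟨p.1, p.2, hp⟩

theorem wit3_11_2 (dx dy : ZMod 3) (hx : dx ≠ 0) (hy : dy ≠ 0) :
    Wit (pairM ((![1, 1]) : Fin 2 → ZMod 3) ((![2]) : Fin 1 → ZMod 3)) dx dy := by
  have key : ∀ dx dy : ZMod 3, dx ≠ 0 → dy ≠ 0 → ∃ p ∈ [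
      ((!![2, 1, 2; 2, 2, 0; 1, 2, 0] : Matrix (Fin 3) (Fin 3) (ZMod 3)),
        (!![1, 0, 0; 0, 1, 1; 2, 0, 1] : Matrix (Fin 3) (Fin 3) (ZMod 3))),
      ((!![2, 2, 2; 2, 2, 1; 0, 2, 2] : Matrix (Fin 3) (Fin 3) (ZMod 3)),
        (!![2, 1, 2; 1, 2, 2; 0, 2, 0] : Matrix (Fin 3) (Fin 3) (ZMod 3))),
      ((!![0, 0, 1; 1, 0, 0; 2, 2, 2] : Matrix (Fin 3) (Fin 3) (ZMod 3)),
        (!![2, 0, 1; 2, 2, 2; 0, 1, 0] : Matrix (Fin 3) (Fin 3) (ZMod 3))),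
      ((!![2, 2, 0; 1, 0, 2; 1, 0, 1] : Matrix (Fin 3) (Fin 3) (ZMod 3)),
        (!![0, 1, 0; 1, 0, 0; 0, 2, 1] : Matrix (Fin 3) (Fin 3) (ZMod 3)))],
      p.1.det = dx ∧ p.2.det = dy ∧ (pairM ((![1, 1]) : Fin 2 → ZMod 3) ((![2]) : Fin 1 → ZMod 3)) * p.2 * p.1 = p.1 * p.2 := by decide +kernel
  obtain ⟨p, -, hp⟩ := key dx dy hx hy
  exact ⟨p.1, p.2, hp⟩

theorem wit3_11_10 (dx dy : ZMod 3) (hx : dx ≠ 0) (hy : dy ≠ 0) :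
    Wit (pairM ((![1, 1]) : Fin 2 → ZMod 3) ((![1, 0]) : Fin 2 → ZMod 3)) dx dy := by
  have key : ∀ dx dy : ZMod 3, dx ≠ 0 → dy ≠ 0 → ∃ p ∈ [
      ((!![1, 1, 1, 2; 1, 0, 1, 2; 0, 1, 1, 1; 1, 0, 0, 0] : Matrix (Fin 4) (Fin 4) (ZMod 3)),
        (!![1, 0, 0, 0; 2, 2, 2, 1; 0, 0, 0, 1; 1, 1, 2, 1] : Matrix (Fin 4) (Fin 4) (ZMod 3))),
      ((!![1, 0, 0, 1; 1, 1, 2, 0; 0, 0, 2, 0; 0, 0, 0, 2] : Matrix (Fin 4) (Fin 4) (ZMod 3)),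
        (!![0, 1, 0, 2; 1, 1, 1, 2; 1, 0, 1, 1; 2, 0, 1, 0] : Matrix (Fin 4) (Fin 4) (ZMod 3))),
      ((!![2, 0, 0, 0; 0, 1, 0, 0; 1, 1, 1, 2; 2, 2, 1, 0] : Matrix (Fin 4) (Fin 4) (ZMod 3)),
        (!![2, 1, 0, 2; 0, 1, 2, 1; 0, 0, 2, 1; 2, 0, 1, 2] : Matrix (Fin 4) (Fin 4) (ZMod 3))),
      ((!![2, 0, 2, 2; 0, 0, 1, 1; 0, 1, 1, 1; 0, 2, 0, 2] : Matrix (Fin 4) (Fin 4) (ZMod 3)),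
        (!![2, 0, 0, 1; 0, 2, 2, 0; 2, 1, 2, 1; 2, 0, 0, 0] : Matrix (Fin 4) (Fin 4) (ZMod 3)))],
      p.1.det = dx ∧ p.2.det = dy ∧ (pairM ((![1, 1]) : Fin 2 → ZMod 3) ((![1, 0]) : Fin 2 → ZMod 3)) * p.2 * p.1 = p.1 * p.2 := by decide +kernel
  obtain ⟨p, -, hp⟩ := key dx dy hx hy
  exact ⟨p.1, p.2, hp⟩

theorem wit3_11_11 (dx dy : ZMod 3) (hx : dx ≠ 0) (hy : dy ≠ 0) :
    Wit (pairM ((![1, 1]) : Fin 2 → ZMod 3) ((![1, 1]) : Fin 2 → ZMod 3)) dx dy := by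
  have key : ∀ dx dy : ZMod 3, dx ≠ 0 → dy ≠ 0 → ∃ p ∈ [
      ((!![2, 1, 0, 2; 1, 0, 1, 1; 1, 2, 1, 1; 0, 1, 2, 2] : Matrix (Fin 4) (Fin 4) (ZMod 3)),
        (!![0, 0, 2, 1; 2, 2, 0, 0; 0, 1, 2, 1; 2, 0, 2, 2] : Matrix (Fin 4) (Fin 4) (ZMod 3))),
      ((!![1, 0, 1, 0; 1, 0, 2, 1; 2, 1, 0, 0; 0, 0, 0, 2] : Matrix (Fin 4) (Fin 4) (ZMod 3)),
        (!![1, 1, 0, 1; 1, 2, 1, 1; 1, 0, 2, 0; 1, 0, 1, 0] : Matrix (Fin 4) (Fin 4) (ZMod 3))),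
      ((!![0, 1, 0, 1; 1, 2, 1, 2; 1, 0, 1, 2; 2, 2, 0, 0] : Matrix (Fin 4) (Fin 4) (ZMod 3)),
        (!![1, 0, 1, 0; 1, 2, 2, 1; 0, 0, 2, 0; 2, 2, 2, 2] : Matrix (Fin 4) (Fin 4) (ZMod 3))),
      ((!![0, 1, 2, 2; 1, 1, 1, 0; 2, 0, 0, 1; 0, 1, 2, 1] : Matrix (Fin 4) (Fin 4) (ZMod 3)),
        (!![0, 1, 0, 1; 2, 1, 2, 2; 1, 2, 1, 0; 2, 0, 1, 0] : Matrix (Fin 4) (Fin 4) (ZMod 3)))],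
      p.1.det = dx ∧ p.2.det = dy ∧ (pairM ((![1, 1]) : Fin 2 → ZMod 3) ((![1, 1]) : Fin 2 → ZMod 3)) * p.2 * p.1 = p.1 * p.2 := by decide +kernel
  obtain ⟨p, -, hp⟩ := key dx dy hx hy
  exact ⟨p.1, p.2, hp⟩

theorem wit3_11_12 (dx dy : ZMod 3) (hx : dx ≠ 0) (hy : dy ≠ 0) :
    Wit (pairM ((![1, 1]) : Fin 2 → ZMod 3) ((![1, 2]) : Fin 2 → ZMod 3)) dx dy := by
  have key : ∀ dx dy : ZMod 3, dx ≠ 0 → dy ≠ 0 → ∃ p ∈ [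
      ((!![1, 0, 2, 1; 1, 2, 0, 2; 2, 2, 1, 1; 2, 1, 2, 0] : Matrix (Fin 4) (Fin 4) (ZMod 3)),
        (!![1, 2, 1, 0; 0, 1, 0, 0; 1, 2, 2, 2; 1, 2, 1, 1] : Matrix (Fin 4) (Fin 4) (ZMod 3))),
      ((!![0, 1, 2, 1; 2, 2, 0, 0; 2, 1, 0, 1; 2, 2, 2, 1] : Matrix (Fin 4) (Fin 4) (ZMod 3)),
        (!![2, 2, 2, 0; 1, 0, 0, 2; 2, 0, 0, 2; 2, 2, 0, 0] : Matrix (Fin 4) (Fin 4) (ZMod 3))),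
      ((!![1, 2, 0, 2; 1, 2, 1, 1; 1, 2, 1, 2; 1, 1, 2, 0] : Matrix (Fin 4) (Fin 4) (ZMod 3)),
        (!![2, 1, 0, 2; 2, 0, 2, 2; 2, 2, 0, 0; 0, 0, 1, 1] : Matrix (Fin 4) (Fin 4) (ZMod 3))),
      ((!![0, 0, 2, 2; 2, 2, 0, 1; 1, 1, 0, 0; 0, 1, 2, 2] : Matrix (Fin 4) (Fin 4) (ZMod 3)),
        (!![0, 1, 1, 0; 0, 1, 2, 0; 1, 2, 0, 0; 1, 0, 0, 2] : Matrix (Fin 4) (Fin 4) (ZMod 3)))],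
      p.1.det = dx ∧ p.2.det = dy ∧ (pairM ((![1, 1]) : Fin 2 → ZMod 3) ((![1, 2]) : Fin 2 → ZMod 3)) * p.2 * p.1 = p.1 * p.2 := by decide +kernel
  obtain ⟨p, -, hp⟩ := key dx dy hx hy
  exact ⟨p.1, p.2, hp⟩

theorem wit3_12_2 (dx dy : ZMod 3) (hx : dx ≠ 0) (hy : dy ≠ 0) :
    Wit (pairM ((![1, 2]) : Fin 2 → ZMod 3) ((![2]) : Fin 1 → ZMod 3)) dx dy := by
  have key : ∀ dx dy : ZMod 3, dx ≠ 0 → dy ≠ 0 → ∃ p ∈ [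
      ((!![2, 0, 0; 1, 2, 0; 0, 1, 1] : Matrix (Fin 3) (Fin 3) (ZMod 3)),
        (!![0, 2, 1; 1, 1, 2; 0, 2, 2] : Matrix (Fin 3) (Fin 3) (ZMod 3))),
      ((!![1, 2, 1; 1, 0, 0; 2, 1, 0] : Matrix (Fin 3) (Fin 3) (ZMod 3)),
        (!![0, 0, 1; 2, 0, 0; 1, 1, 1] : Matrix (Fin 3) (Fin 3) (ZMod 3))),
      ((!![0, 1, 2; 2, 2, 2; 0, 0, 2] : Matrix (Fin 3) (Fin 3) (ZMod 3)),
        (!![1, 2, 2; 1, 1, 2; 2, 1, 0] : Matrix (Fin 3) (Fin 3) (ZMod 3))),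
      ((!![1, 2, 0; 0, 1, 0; 2, 1, 2] : Matrix (Fin 3) (Fin 3) (ZMod 3)),
        (!![0, 2, 0; 1, 2, 2; 1, 1, 1] : Matrix (Fin 3) (Fin 3) (ZMod 3)))],
      p.1.det = dx ∧ p.2.det = dy ∧ (pairM ((![1, 2]) : Fin 2 → ZMod 3) ((![2]) : Fin 1 → ZMod 3)) * p.2 * p.1 = p.1 * p.2 := by decide +kernel
  obtain ⟨p, -, hp⟩ := key dx dy hx hy
  exact ⟨p.1, p.2, hp⟩

theorem wit3_12_10 (dx dy : ZMod 3) (hx : dx ≠ 0) (hy : dy ≠ 0) :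
    Wit (pairM ((![1, 2]) : Fin 2 → ZMod 3) ((![1, 0]) : Fin 2 → ZMod 3)) dx dy := by
  have key : ∀ dx dy : ZMod 3, dx ≠ 0 → dy ≠ 0 → ∃ p ∈ [
      ((!![1, 2, 2, 1; 0, 0, 0, 2; 0, 2, 2, 0; 0, 0, 1, 1] : Matrix (Fin 4) (Fin 4) (ZMod 3)),
        (!![1, 1, 2, 1; 1, 2, 2, 2; 2, 2, 2, 1; 0, 0, 1, 0] : Matrix (Fin 4) (Fin 4) (ZMod 3))),
      ((!![2, 2, 1, 1; 1, 2, 2, 2; 0, 0, 1, 0; 1, 2, 1, 1] : Matrix (Fin 4) (Fin 4) (ZMod 3)),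
        (!![0, 1, 1, 0; 1, 2, 0, 2; 0, 1, 2, 2; 1, 0, 0, 1] : Matrix (Fin 4) (Fin 4) (ZMod 3))),
      ((!![2, 2, 2, 0; 2, 1, 2, 0; 0, 2, 1, 1; 2, 0, 2, 2] : Matrix (Fin 4) (Fin 4) (ZMod 3)),
        (!![1, 0, 0, 0; 0, 2, 0, 0; 1, 2, 2, 0; 1, 2, 2, 1] : Matrix (Fin 4) (Fin 4) (ZMod 3))),
      ((!![1, 2, 1, 2; 2, 1, 1, 0; 1, 1, 0, 1; 0, 1, 0, 1] : Matrix (Fin 4) (Fin 4) (ZMod 3)),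
        (!![0, 1, 0, 0; 2, 1, 1, 2; 1, 2, 0, 0; 0, 0, 2, 0] : Matrix (Fin 4) (Fin 4) (ZMod 3)))],
      p.1.det = dx ∧ p.2.det = dy ∧ (pairM ((![1, 2]) : Fin 2 → ZMod 3) ((![1, 0]) : Fin 2 → ZMod 3)) * p.2 * p.1 = p.1 * p.2 := by decide +kernel
  obtain ⟨p, -, hp⟩ := key dx dy hx hy
  exact ⟨p.1, p.2, hp⟩

theorem wit3_12_11 (dx dy : ZMod 3) (hx : dx ≠ 0) (hy : dy ≠ 0) :
    Wit (pairM ((![1, 2]) : Fin 2 → ZMod 3) ((![1, 1]) : Fin 2 → ZMod 3)) dx dy := by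
  have key : ∀ dx dy : ZMod 3, dx ≠ 0 → dy ≠ 0 → ∃ p ∈ [
      ((!![2, 2, 2, 1; 2, 1, 1, 0; 0, 0, 2, 2; 2, 1, 0, 1] : Matrix (Fin 4) (Fin 4) (ZMod 3)),
        (!![0, 2, 1, 1; 2, 2, 2, 1; 0, 2, 2, 2; 0, 1, 0, 2] : Matrix (Fin 4) (Fin 4) (ZMod 3))),
      ((!![1, 0, 2, 1; 1, 2, 2, 0; 2, 2, 2, 2; 2, 0, 0, 0] : Matrix (Fin 4) (Fin 4) (ZMod 3)),
        (!![0, 2, 2, 1; 1, 0, 0, 1; 0, 0, 2, 0; 0, 1, 2, 0] : Matrix (Fin 4) (Fin 4) (ZMod 3))),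
      ((!![0, 2, 0, 2; 2, 0, 1, 2; 2, 1, 0, 1; 2, 1, 2, 1] : Matrix (Fin 4) (Fin 4) (ZMod 3)),
        (!![0, 2, 1, 0; 1, 1, 2, 1; 1, 1, 1, 2; 0, 0, 1, 1] : Matrix (Fin 4) (Fin 4) (ZMod 3))),
      ((!![0, 0, 1, 0; 1, 2, 2, 2; 2, 0, 2, 0; 0, 1, 1, 2] : Matrix (Fin 4) (Fin 4) (ZMod 3)),
        (!![0, 1, 2, 0; 2, 2, 2, 1; 0, 2, 2, 0; 2, 0, 0, 0] : Matrix (Fin 4) (Fin 4) (ZMod 3)))],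
      p.1.det = dx ∧ p.2.det = dy ∧ (pairM ((![1, 2]) : Fin 2 → ZMod 3) ((![1, 1]) : Fin 2 → ZMod 3)) * p.2 * p.1 = p.1 * p.2 := by decide +kernel
  obtain ⟨p, -, hp⟩ := key dx dy hx hy
  exact ⟨p.1, p.2, hp⟩

theorem wit3_12_12 (dx dy : ZMod 3) (hx : dx ≠ 0) (hy : dy ≠ 0) :
    Wit (pairM ((![1, 2]) : Fin 2 → ZMod 3) ((![1, 2]) : Fin 2 → ZMod 3)) dx dy := by
  have key : ∀ dx dy : ZMod 3, dx ≠ 0 → dy ≠ 0 → ∃ p ∈ [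
      ((!![2, 1, 1, 1; 1, 0, 0, 1; 0, 1, 2, 2; 0, 1, 0, 1] : Matrix (Fin 4) (Fin 4) (ZMod 3)),
        (!![2, 0, 0, 2; 1, 0, 0, 2; 0, 2, 0, 1; 0, 1, 1, 2] : Matrix (Fin 4) (Fin 4) (ZMod 3))),
      ((!![2, 2, 0, 0; 1, 0, 2, 1; 2, 1, 0, 1; 2, 0, 2, 0] : Matrix (Fin 4) (Fin 4) (ZMod 3)),
        (!![0, 1, 0, 0; 1, 0, 0, 0; 1, 2, 2, 2; 0, 2, 1, 0] : Matrix (Fin 4) (Fin 4) (ZMod 3))),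
      ((!![0, 1, 0, 2; 1, 1, 0, 1; 1, 1, 2, 1; 0, 0, 0, 2] : Matrix (Fin 4) (Fin 4) (ZMod 3)),
        (!![1, 0, 1, 0; 0, 1, 2, 0; 2, 0, 2, 1; 0, 1, 1, 0] : Matrix (Fin 4) (Fin 4) (ZMod 3))),
      ((!![2, 0, 1, 2; 2, 2, 0, 0; 0, 2, 2, 2; 2, 1, 0, 2] : Matrix (Fin 4) (Fin 4) (ZMod 3)),
        (!![1, 0, 1, 0; 0, 1, 1, 2; 1, 1, 2, 0; 0, 1, 2, 0] : Matrix (Fin 4) (Fin 4) (ZMod 3)))],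
      p.1.det = dx ∧ p.2.det = dy ∧ (pairM ((![1, 2]) : Fin 2 → ZMod 3) ((![1, 2]) : Fin 2 → ZMod 3)) * p.2 * p.1 = p.1 * p.2 := by decide +kernel
  obtain ⟨p, -, hp⟩ := key dx dy hx hy
  exact ⟨p.1, p.2, hp⟩

theorem det_eq_one_of_mul {n : ℕ} {X X' : Matrix (Fin n) (Fin n) (ZMod 2)} (h : X * X' = 1) :
    X.det = 1 := by
  have h1 := congrArg Matrix.det h
  rw [Matrix.det_mul, Matrix.det_one] at h1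
  revert h1
  generalize X.det = a
  generalize X'.det = b
  revert a b
  decide

theorem wit2_11 : Wit (compM ((![1, 1]) : Fin 2 → ZMod 2)) 1 1 :=
  ⟨!![1, 1; 1, 0], !![1, 0; 1, 1],
    det_eq_one_of_mul (X' := !![0, 1; 1, 1]) (by decide +kernel),
    det_eq_one_of_mul (X' := !![1, 0; 1, 1]) (by decide +kernel), by decide +kernel⟩

theorem wit2_10_1 : Wit (pairM ((![1, 0]) : Fin 2 → ZMod 2) ((![1]) : Fin 1 → ZMod 2)) 1 1 :=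
  ⟨!![1, 0, 1; 0, 1, 1; 0, 0, 1], !![1, 0, 1; 0, 1, 1; 1, 1, 1],
    det_eq_one_of_mul (X' := !![1, 0, 1; 0, 1, 1; 0, 0, 1]) (by decide +kernel),
    det_eq_one_of_mul (X' := !![0, 1, 1; 1, 0, 1; 1, 1, 1]) (by decide +kernel), by decide +kernel⟩

theorem wit2_10_11 : Wit (pairM ((![1, 0]) : Fin 2 → ZMod 2) ((![1, 1]) : Fin 2 → ZMod 2)) 1 1 :=
  ⟨!![1, 0, 1, 1; 1, 0, 0, 1; 1, 1, 0, 1; 0, 0, 0, 1], !![1, 0, 1, 0; 0, 1, 0, 0; 1, 1, 1, 1; 1, 1, 0, 0],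
    det_eq_one_of_mul (X' := !![0, 1, 0, 1; 0, 1, 1, 0; 1, 1, 0, 0; 0, 0, 0, 1]) (by decide +kernel),
    det_eq_one_of_mul (X' := !![0, 1, 0, 1; 0, 1, 0, 0; 1, 1, 0, 1; 1, 1, 1, 0]) (by decide +kernel), by decide +kernel⟩

theorem wit2_10_10 : Wit (pairM ((![1, 0]) : Fin 2 → ZMod 2) ((![1, 0]) : Fin 2 → ZMod 2)) 1 1 :=
  ⟨!![0, 1, 0, 0; 0, 0, 1, 1; 1, 1, 0, 0; 0, 1, 1, 0], !![1, 0, 1, 0; 0, 1, 0, 1; 1, 1, 1, 0; 0, 1, 1, 0],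
    det_eq_one_of_mul (X' := !![1, 0, 1, 0; 1, 0, 0, 0; 1, 0, 0, 1; 1, 1, 0, 1]) (by decide +kernel),
    det_eq_one_of_mul (X' := !![0, 0, 1, 1; 1, 0, 1, 0; 1, 0, 1, 1; 1, 1, 1, 0]) (by decide +kernel), by decide +kernel⟩

theorem wit2_10_10_10 : Wit ((Matrix.fromBlocks (compM ((![1, 0]) : Fin 2 → ZMod 2)) 0 0 (pairM ((![1, 0]) : Fin 2 → ZMod 2) ((![1, 0]) : Fin 2 → ZMod 2))).submatrix (finSumFinEquiv (m := 2) (n := 4)).symm (finSumFinEquiv (m := 2) (n := 4)).symm) 1 1 :=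
  ⟨!![1, 0, 0, 1, 1, 1; 1, 0, 0, 0, 1, 0; 1, 0, 0, 0, 0, 1; 0, 0, 0, 1, 1, 1; 0, 0, 1, 0, 0, 0; 1, 1, 0, 0, 1, 0], !![0, 0, 1, 0, 1, 1; 1, 1, 1, 0, 0, 1; 1, 0, 0, 0, 1, 1; 1, 1, 0, 0, 0, 1; 0, 1, 0, 0, 0, 0; 1, 1, 1, 1, 0, 0],
    det_eq_one_of_mul (X' := !![1, 0, 0, 1, 0, 0; 0, 1, 0, 0, 0, 1; 0, 0, 0, 0, 1, 0; 0, 1, 1, 1, 0, 0; 1, 1, 0, 1, 0, 0; 1, 0, 1, 1, 0, 0]) (by decide +kernel),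
    det_eq_one_of_mul (X' := !![1, 1, 1, 1, 0, 0; 0, 0, 0, 0, 1, 0; 0, 1, 0, 1, 0, 0; 1, 0, 1, 0, 1, 1; 0, 0, 1, 1, 1, 0; 1, 1, 1, 0, 1, 0]) (by decide +kernel), by decide +kernel⟩

end CfsgLib.SLComm
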