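import Cfsg.Agent.Lib.SLComm.Family
import Cfsg.Agent.Lib.SLComm.SmallCases

/-!
# The fields with two and three elements
-/

set_option autoImplicit false
set_option linter.unusedSectionVars false

namespace CfsgLib.SLComm

open Module

variable {p : ℕ} [Fact p.Prime]

theorem commD_of_wit {n : ℕ} {A : Matrix (Fin n) (Fin n) (ZMod p)} {dx dy : ZMod p}
    (h : Wit A dx dy) : CommD (Matrix.toLin' A) dx dy := by
  obtain ⟨X, Y, hX, hY, hA⟩ := h
  exact ⟨Matrix.toLin' X, Matrix.toLin' Y, by rw [LinearMap.det_toLin', hX],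
    by rw [LinearMap.det_toLin', hY], by simp only [Module.End.mul_eq_comp, ← Matrix.toLin'_mul, hA]⟩

/-- `K^a × K^b ≃ K^(a + b)`. -/
def appendEquiv (p a b : ℕ) : ((Fin a → ZMod p) × (Fin b → ZMod p)) ≃ₗ[ZMod p] (Fin (a + b) → ZMod p) :=
  (LinearEquiv.sumArrowLequivProdArrow (Fin a) (Fin b) (ZMod p) (ZMod p)).symm.trans
    (LinearEquiv.funCongrLeft (ZMod p) (ZMod p) finSumFinEquiv.symm)

theorem append_blocks {a b : ℕ} (A : Matrix (Fin a) (Fin a) (ZMod p)) (B : Matrix (Fin b) (Fin b) (ZMod p))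
    (x : (Fin a → ZMod p) × (Fin b → ZMod p)) :
    appendEquiv p a b (LinearMap.prodMap (Matrix.toLin' A) (Matrix.toLin' B) x) =
      Matrix.toLin' ((Matrix.fromBlocks A 0 0 B).submatrix finSumFinEquiv.symm finSumFinEquiv.symm)
        (appendEquiv p a b x) := by
  ext i
  obtain ⟨j, rfl⟩ := finSumFinEquiv.surjective i
  rcases j with j | j <;>
    simp [appendEquiv, Matrix.toLin'_apply, Matrix.mulVec, dotProduct,
      Fintype.sum_sum_type, Matrix.fromBlocks, LinearEquiv.sumArrowLequivProdArrow,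
      Equiv.sumArrowEquivProdArrow]

theorem commD_pair {a b : ℕ} (c : Fin (a + 1) → ZMod p) (d : Fin (b + 1) → ZMod p) {dx dy : ZMod p}
    (h : Wit (pairM c d) dx dy) : CommD (LinearMap.prodMap (comp c) (comp d)) dx dy :=
  (commD_of_wit h).congr' (appendEquiv p _ _) fun x => append_blocks _ _ x

theorem commD_triple {a b c : ℕ} (A : Matrix (Fin a) (Fin a) (ZMod p)) (B : Matrix (Fin b) (Fin b) (ZMod p))
    (C : Matrix (Fin c) (Fin c) (ZMod p)) {dx dy : ZMod p}
    (h : Wit ((Matrix.fromBlocks A 0 0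
      ((Matrix.fromBlocks B 0 0 C).submatrix finSumFinEquiv.symm finSumFinEquiv.symm)).submatrix
        finSumFinEquiv.symm finSumFinEquiv.symm) dx dy) :
    CommD (LinearMap.prodMap (Matrix.toLin' A) (LinearMap.prodMap (Matrix.toLin' B) (Matrix.toLin' C)))
      dx dy :=
  (commD_of_wit h).congr'
    (((LinearEquiv.refl (ZMod p) (Fin a → ZMod p)).prodCongr (appendEquiv p b c)).trans
      (appendEquiv p a (b + c))) fun x =>
    (congrArg (fun z => appendEquiv p a (b + c) (Matrix.toLin' A x.1, z)) (append_blocks B C x.2)).trans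
      (append_blocks A _ (x.1, appendEquiv p b c x.2))

theorem commD_one_dim (c : Fin (0 + 1) → ZMod p) (hdet : LinearMap.det (comp c) = 1) (dx dy : ZMod p) :
    CommD (comp c) dx dy := by
  have hV : finrank (ZMod p) (Fin (0 + 1) → ZMod p) = 1 := by simp
  have hc : comp c = 1 := by
    have h0 : c 0 = 1 := by simpa [det_comp, compM] using hdet
    refine (Pi.basisFun _ _).ext fun i => ?_
    fin_cases i
    simp only [Pi.basisFun_apply]
    exact (comp_last c).trans (funext fun j => by fin_cases j; simp [h0])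
  exact ⟨dx • 1, dy • 1, by rw [LinearMap.det_smul, hV]; simp, by rw [LinearMap.det_smul, hV]; simp,
    by rw [hc]; ext; simp; ring⟩

theorem vec1 {α : Type*} {c : Fin (0 + 1) → α} : c = ![c 0] := funext fun i => by fin_cases i; rfl
theorem vec2 {α : Type*} {c : Fin (1 + 1) → α} : c = ![c 0, c 1] := funext fun i => by fin_cases i <;> rfl

theorem det_ne_zero_conj {ι : Type} [Fintype ι] {m : ι → ℕ} {c : ∀ i, Fin (m i + 1) → ZMod p} [DecidableEq ι]
    (h : LinearMap.det (blockOp c) ≠ 0) (i : ι) : LinearMap.det (comp (c i)) ≠ 0 := fun h0 =>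
  h (by rw [det_peel c i, h0, zero_mul])

section Two

instance : Fact (Nat.Prime 2) := ⟨Nat.prime_two⟩

theorem two_eq_one {x : ZMod 2} (h : x ≠ 0) : x = 1 := by revert x; decide
theorem two_cases (x : ZMod 2) : x = 0 ∨ x = 1 := by revert x; decide

theorem ok_two (m : ℕ) : Ok m (1 : ZMod 2) := by
  refine Or.inr ⟨fun _ => 1, fun _ => one_ne_zero, ?_⟩
  simp only [Finset.sum_const, Finset.card_range, nsmul_one]
  rw [Nat.cast_add, Nat.cast_one, add_right_comm, ← two_mul, show (2 : ZMod 2) = 0 from rfl, zero_mul,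
    zero_add]

theorem good2_two : Good2 (1 : ZMod 2) 1 :=
  ⟨!![1, 1; 1, 0], !![1, 1; 1, 0], by decide +kernel, by decide +kernel, by decide +kernel,
    by decide +kernel, fun d hd => by
      rw [two_eq_one hd]
      have key : ∃ P : Matrix (Fin 2) (Fin 2) (ZMod 2),
          !![1, 1; 1, 0] * P * !![1, 1; 1, 0] = P ∧ P.det = 1 := by decide +kernel
      exact key⟩

/-- The companion block of `(x + 1) ^ 2`. -/
def IsJ {m : ℕ} (c : Fin (m + 1) → ZMod 2) : Prop := m = 1 ∧ c (Fin.last m) = 0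

theorem det_two {m : ℕ} {c : Fin (m + 1) → ZMod 2} (h : LinearMap.det (comp c) ≠ 0) : c 0 = 1 :=
  two_eq_one fun h0 => h (by rw [det_comp, h0, mul_zero])

theorem single_two {m : ℕ} (c : Fin (m + 1) → ZMod 2) (hd : LinearMap.det (comp c) ≠ 0) (hJ : ¬ IsJ c) :
    CommD (comp c) 1 1 := by
  rcases m with _ | _ | k
  · exact commD_one_dim c (two_eq_one hd) 1 1
  · have h1 : c 1 = 1 := (two_cases _).resolve_left fun h => hJ ⟨rfl, h⟩
    rw [vec2 (c := c), det_two hd, h1]
    exact commD_of_wit wit2_11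
  · exact single_comm c (two_eq_one hd) ok_two good2_two one_ne_zero

theorem merge_two {m m' : ℕ} (c : Fin (m + 1) → ZMod 2) (d : Fin (m' + 1) → ZMod 2)
    (hc : LinearMap.det (comp c) ≠ 0) (hd : LinearMap.det (comp d) ≠ 0) (hJ : IsJ c) :
    CommD (LinearMap.prodMap (comp c) (comp d)) 1 1 := by
  obtain ⟨rfl, hc1⟩ := hJ
  have hc1 : c 1 = 0 := hc1
  rcases m' with _ | _ | k
  · rw [vec2 (c := c), vec1 (c := d), det_two hc, det_two hd, hc1]
    exact commD_pair _ _ wit2_10_1
  · rw [vec2 (c := c), vec2 (c := d), det_two hc, det_two hd, hc1]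
    rcases two_cases (d 1) with h | h <;> rw [h]
    · exact commD_pair _ _ wit2_10_10
    · exact commD_pair _ _ wit2_10_11
  · refine (pair_comm d c (by rw [two_eq_one hc, two_eq_one hd, one_mul]) ok_two ?_ good2_two one_ne_zero).swap
    intro h
    rw [det_two hd, show c (Fin.last 1) = 0 from hc1, add_zero]
    exact ok_two _

theorem triple_two {m₁ m₂ m₃ : ℕ} (c₁ : Fin (m₁ + 1) → ZMod 2) (c₂ : Fin (m₂ + 1) → ZMod 2)
    (c₃ : Fin (m₃ + 1) → ZMod 2) (h₁ : LinearMap.det (comp c₁) ≠ 0) (h₂ : LinearMap.det (comp c₂) ≠ 0)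
    (h₃ : LinearMap.det (comp c₃) ≠ 0) (hJ₁ : IsJ c₁) (hJ₂ : IsJ c₂) (hJ₃ : IsJ c₃) :
    CommD (LinearMap.prodMap (comp c₁) (LinearMap.prodMap (comp c₂) (comp c₃))) 1 1 := by
  obtain ⟨rfl, e₁⟩ := hJ₁
  obtain ⟨rfl, e₂⟩ := hJ₂
  obtain ⟨rfl, e₃⟩ := hJ₃
  have e₁ : c₁ 1 = 0 := e₁
  have e₂ : c₂ 1 = 0 := e₂
  have e₃ : c₃ 1 = 0 := e₃
  rw [vec2 (c := c₁), vec2 (c := c₂), vec2 (c := c₃), det_two h₁, det_two h₂, det_two h₃, e₁, e₂, e₃]
  have w := wit2_10_10_10
  unfold pairM at w
  exact commD_triple (a := 2) (b := 2) (c := 2) _ _ _ w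

theorem family_two : ∀ (n : ℕ) {ι : Type} [Fintype ι], Fintype.card ι = n → ∀ {m : ι → ℕ}
    (c : ∀ i, Fin (m i + 1) → ZMod 2), (∀ i, LinearMap.det (comp (c i)) ≠ 0) →
    (n = 1 → ∀ i, ¬ IsJ (c i)) → CommD (blockOp c) 1 1 := by
  intro n
  induction n using Nat.strongRecOn with
  | ind n ih =>
    intro ι _ hn m c hd hex
    classical
    rcases isEmpty_or_nonempty ι with h0 | h0
    · exact commD_empty c
    have hn0 : 0 < n := hn ▸ Fintype.card_pos
    by_cases hgood : ∃ i, ¬ IsJ (c i)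
    · obtain ⟨i, hi⟩ := hgood
      have hcard : Fintype.card {j // j ≠ i} = n - 1 := by simp [hn]
      by_cases hbad : Fintype.card {j // j ≠ i} = 1 ∧ ∃ j : {j // j ≠ i}, IsJ (c j.1)
      · obtain ⟨h1, j, hj⟩ := hbad
        have := rest_empty j h1
        have h2 := CommD.peel₂ i j (merge_two (c j.1) (c i) (hd _) (hd _) hj).swap
          (commD_empty (m := restM (restM m i) j) fun k => c k.1.1)
        rwa [one_mul] at h2
      · have h2 := CommD.peel i (single_two (c i) (hd i) hi)
          (ih (Fintype.card {j // j ≠ i}) (by omega) rfl (fun j => c j.1 : ∀ j : {j // j ≠ i}, Fin (restM m i j + 1) → ZMod 2) (fun j => hd j.1)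
            fun h j hj => hbad ⟨h, j, hj⟩)
        rwa [one_mul] at h2
    · push Not at hgood
      rcases Nat.lt_or_ge n 2 with h2 | h2
      · obtain ⟨i⟩ := h0
        exact absurd (hgood i) (hex (by omega) i)
      obtain ⟨i, j, hij⟩ := Fintype.exists_pair_of_one_lt_card (by omega : 1 < Fintype.card ι)
      let j' : {k // k ≠ i} := ⟨j, hij.symm⟩
      have hcard : Fintype.card {k : {k // k ≠ i} // k ≠ j'} = n - 2 := by
        simp [hn]; omega
      by_cases h3 : n = 3
      · obtain ⟨l⟩ : Nonempty {k : {k // k ≠ i} // k ≠ j'} := Fintype.card_pos_iff.1 (by omega)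
        have := rest_empty l (by omega)
        have h5 := (triple_two (c i) (c j) (c l.1.1) (hd _) (hd _) (hd _) (hgood _) (hgood _) (hgood _)).prod
          (commD_empty (m := restM (restM (restM m i) j') l) fun k => c k.1.1.1)
        have h6 := h5.congr'
          (((peel i).trans ((LinearEquiv.refl (ZMod 2) _).prodCongr ((peel (m := restM m i) j').trans
            ((LinearEquiv.refl (ZMod 2) _).prodCongr (peel (m := restM (restM m i) j') l))))).trans
            (((LinearEquiv.refl (ZMod 2) _).prodCongr (LinearEquiv.prodAssoc (ZMod 2) _ _ _).symm).trans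
              (LinearEquiv.prodAssoc (ZMod 2) _ _ _).symm)) (B := blockOp c) fun _ => rfl
        rwa [one_mul] at h6
      · have h4 := CommD.peel₂ i j' (merge_two (c i) (c j) (hd _) (hd _) (hgood i))
          (ih (n - 2) (by omega) hcard (fun k => c k.1.1 : ∀ k : {k : {k // k ≠ i} // k ≠ j'}, Fin (restM (restM m i) j' k + 1) → ZMod 2)
            (fun k => hd k.1.1)
            (fun h => absurd h (by omega)))
        rwa [one_mul] at h4

end Two

section Three

instance : Fact (Nat.Prime 3) := ⟨Nat.prime_three⟩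

theorem three_cases (x : ZMod 3) : x = 0 ∨ x = 1 ∨ x = 2 := by revert x; decide
theorem three_ne_zero_cases {x : ZMod 3} (h : x ≠ 0) : x = 1 ∨ x = 2 := (three_cases x).resolve_left h

theorem ok_three (m : ℕ) (s : ZMod 3) (h : m = 1 → s ≠ 2) : Ok m s := by
  rcases m with _ | _ | k
  · exact Or.inl rfl
  · refine Or.inr ⟨fun _ => s - 2, fun _ => sub_ne_zero.2 (h rfl), ?_⟩
    simp
  · have key : ∀ r : ZMod 3, ∃ x y : ZMod 3, x ≠ 0 ∧ y ≠ 0 ∧ r = x + y := by decide
    obtain ⟨x, y, hx, hy, hr⟩ := key (s - (k + 1 + 1 + 1 : ℕ) - k)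
    refine Or.inr ⟨fun i => if i = k then x else if i = k + 1 then y else 1,
      fun i => by dsimp only; split_ifs <;> first | assumption | exact one_ne_zero, ?_⟩
    rw [Finset.sum_range_succ, Finset.sum_range_succ, Finset.sum_congr rfl (g := fun _ => (1 : ZMod 3))
      fun i hi => by
        have := Finset.mem_range.1 hi
        rw [if_neg (by omega), if_neg (by omega)]]
    rw [if_pos rfl, if_neg (by omega), if_pos rfl, Finset.sum_const, Finset.card_range, nsmul_one]
    linear_combination hr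

theorem ok_three_one (m : ℕ) : Ok m (1 : ZMod 3) := ok_three m 1 fun _ => by decide

theorem good2_three (dx : ZMod 3) (h : dx ≠ 0) : Good2 (0 : ZMod 3) dx := by
  rcases three_ne_zero_cases h with rfl | rfl
  · have key : ∀ d : ZMod 3, d ≠ 0 → ∃ P : Matrix (Fin 2) (Fin 2) (ZMod 3),
        !![2, 1; 1, 1] * P * !![1, 1; 1, 2] = P ∧ P.det = d := by decide +kernel
    exact ⟨!![1, 1; 1, 2], !![2, 1; 1, 1], by decide +kernel, by decide +kernel, by decide +kernel,
      by decide +kernel, key⟩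
  · have key : ∀ d : ZMod 3, d ≠ 0 → ∃ P : Matrix (Fin 2) (Fin 2) (ZMod 3),
        !![2, 1; 2, 2] * P * !![1, 2; 1, 1] = P ∧ P.det = d := by decide +kernel
    exact ⟨!![1, 2; 1, 1], !![2, 1; 2, 2], by decide +kernel, by decide +kernel, by decide +kernel,
      by decide +kernel, key⟩

/-- All commutator determinants except possibly `(1, 1)`; all of them in dimension at least three. -/
def Piece {V : Type} [AddCommGroup V] [Module (ZMod 3) V] (A : End (ZMod 3) V) : Prop :=
  ∀ dx dy : ZMod 3, dx ≠ 0 → dy ≠ 0 → (dx ≠ 1 ∨ dy ≠ 1 ∨ 3 ≤ finrank (ZMod 3) V) → CommD A dx dy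

theorem Piece.congr' {V W : Type} [AddCommGroup V] [Module (ZMod 3) V] [AddCommGroup W]
    [Module (ZMod 3) W] (e : W ≃ₗ[ZMod 3] V) {A : End (ZMod 3) V} {B : End (ZMod 3) W}
    (h : ∀ x, e (B x) = A (e x)) (hA : Piece A) : Piece B :=
  fun dx dy hx hy hh => (hA dx dy hx hy (by rwa [← e.finrank_eq])).congr' e h

theorem Piece.prod {V W : Type} [AddCommGroup V] [Module (ZMod 3) V] [AddCommGroup W]
    [Module (ZMod 3) W] [FiniteDimensional (ZMod 3) V] [FiniteDimensional (ZMod 3) W]
    {A : End (ZMod 3) V} {B : End (ZMod 3) W} (hA : Piece A) (hB : Piece B) :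
    Piece (LinearMap.prodMap A B) := by
  intro dx dy hx hy _
  have key : ∀ dx dy : ZMod 3, dx ≠ 0 → dy ≠ 0 → ∃ a b c d : ZMod 3, a ≠ 0 ∧ b ≠ 0 ∧ c ≠ 0 ∧ d ≠ 0 ∧
      (a ≠ 1 ∨ b ≠ 1) ∧ (c ≠ 1 ∨ d ≠ 1) ∧ a * c = dx ∧ b * d = dy := by decide +kernel
  obtain ⟨a, b, c, d, ha, hb, hc, hd, h1, h2, rfl, rfl⟩ := key dx dy hx hy
  exact (hA a b ha hb (by tauto)).prod (hB c d hc hd (by tauto))

theorem piece_single {m : ℕ} (c : Fin (m + 1) → ZMod 3) (hd : LinearMap.det (comp c) = 1) :
    Piece (comp c) := by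
  intro dx dy hx hy hh
  rcases m with _ | _ | k
  · exact commD_one_dim c hd dx dy
  · have h0 : c 0 = 2 := by
      have : -c 0 = 1 := by rw [det_comp] at hd; simpa using hd
      rw [eq_comm, eq_neg_iff_add_eq_zero] at this
      revert this; generalize c 0 = x; revert x; decide
    have h' : dx ≠ 1 ∨ dy ≠ 1 := by simpa using hh
    rw [vec2 (c := c), h0]
    rcases three_cases (c 1) with h | h | h <;> rw [h]
    · exact commD_of_wit (wit3_20 dx dy hx hy h')
    · exact commD_of_wit (wit3_21 dx dy hx hy h')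
    · exact commD_of_wit (wit3_22 dx dy hx hy h')
  · exact single_comm c hd ok_three_one (good2_three dx hx) hy

theorem coeff_zero {m : ℕ} {c : Fin (m + 1) → ZMod 3} (hm : m ≤ 2) (hd : LinearMap.det (comp c) = 2) :
    c 0 = if m = 1 then 1 else 2 := by
  rw [det_comp] at hd
  interval_cases m <;> (revert hd; generalize c 0 = x; revert x; decide)

theorem piece_pair_big {k f : ℕ} (c : Fin (k + 2 + 1) → ZMod 3) (d : Fin (f + 1) → ZMod 3)
    (hc : LinearMap.det (comp c) = 2) (hd : LinearMap.det (comp d) = 2) :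
    Piece (LinearMap.prodMap (comp c) (comp d)) := by
  intro dx dy hx hy _
  refine pair_comm c d (by rw [hc, hd]; decide) ok_three_one ?_ (good2_three dx hx) hy
  rintro rfl
  refine ok_three _ _ fun hf => ?_
  obtain rfl : f = 0 := by omega
  rw [coeff_zero le_rfl hc, show d (Fin.last 0) = d 0 from rfl, coeff_zero (by omega) hd]
  decide

theorem piece_pair {a b : ℕ} (c : Fin (a + 1) → ZMod 3) (d : Fin (b + 1) → ZMod 3)
    (hc : LinearMap.det (comp c) = 2) (hd : LinearMap.det (comp d) = 2) :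
    Piece (LinearMap.prodMap (comp c) (comp d)) := by
  match a, b, c, d, hc, hd with
  | k + 2, _, c, d, hc, hd => exact piece_pair_big c d hc hd
  | 0, k + 2, c, d, hc, hd =>
    exact (piece_pair_big d c hd hc).congr' (LinearEquiv.prodComm _ _ _) fun _ => rfl
  | 1, k + 2, c, d, hc, hd =>
    exact (piece_pair_big d c hd hc).congr' (LinearEquiv.prodComm _ _ _) fun _ => rfl
  | 0, 0, c, d, hc, hd =>
    intro dx dy hx hy hh
    have h' : dx ≠ 1 ∨ dy ≠ 1 := by simpa using hh
    rw [vec1 (c := c), vec1 (c := d), coeff_zero (by omega) hc, coeff_zero (by omega) hd]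
    exact commD_pair _ _ (wit3_2_2 dx dy hx hy h')
  | 0, 1, c, d, hc, hd =>
    intro dx dy hx hy _
    rw [vec1 (c := c), vec2 (c := d), coeff_zero (by omega) hc, coeff_zero (by omega) hd]
    rcases three_cases (d 1) with h | h | h <;> rw [h]
    · exact commD_pair _ _ (wit3_2_10 dx dy hx hy)
    · exact commD_pair _ _ (wit3_2_11 dx dy hx hy)
    · exact commD_pair _ _ (wit3_2_12 dx dy hx hy)
  | 1, 0, c, d, hc, hd =>
    intro dx dy hx hy _
    rw [vec2 (c := c), vec1 (c := d), coeff_zero (by omega) hc, coeff_zero (by omega) hd]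
    rcases three_cases (c 1) with h | h | h <;> rw [h]
    · exact commD_pair _ _ (wit3_10_2 dx dy hx hy)
    · exact commD_pair _ _ (wit3_11_2 dx dy hx hy)
    · exact commD_pair _ _ (wit3_12_2 dx dy hx hy)
  | 1, 1, c, d, hc, hd =>
    intro dx dy hx hy _
    rw [vec2 (c := c), vec2 (c := d), coeff_zero (by omega) hc, coeff_zero (by omega) hd]
    rcases three_cases (c 1) with h | h | h <;> rw [h] <;>
      rcases three_cases (d 1) with h2 | h2 | h2 <;> rw [h2]
    · exact commD_pair _ _ (wit3_10_10 dx dy hx hy)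
    · exact commD_pair _ _ (wit3_10_11 dx dy hx hy)
    · exact commD_pair _ _ (wit3_10_12 dx dy hx hy)
    · exact commD_pair _ _ (wit3_11_10 dx dy hx hy)
    · exact commD_pair _ _ (wit3_11_11 dx dy hx hy)
    · exact commD_pair _ _ (wit3_11_12 dx dy hx hy)
    · exact commD_pair _ _ (wit3_12_10 dx dy hx hy)
    · exact commD_pair _ _ (wit3_12_11 dx dy hx hy)
    · exact commD_pair _ _ (wit3_12_12 dx dy hx hy)

theorem piece_prod_empty {V : Type} [AddCommGroup V] [Module (ZMod 3) V] [FiniteDimensional (ZMod 3) V]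
    {A : End (ZMod 3) V} (hA : Piece A) {ι : Type} [Fintype ι] [IsEmpty ι] {m : ι → ℕ}
    (c : ∀ i, Fin (m i + 1) → ZMod 3) : Piece (LinearMap.prodMap A (blockOp c)) := by
  intro dx dy hx hy hh
  rw [Module.finrank_prod, Module.finrank_zero_of_subsingleton (R := ZMod 3)
    (M := ∀ i, Fin (m i + 1) → ZMod 3), add_zero] at hh
  simpa using (hA dx dy hx hy hh).prod (commD_empty c)

theorem family_three : ∀ (n : ℕ) {ι : Type} [Fintype ι], Fintype.card ι = n → ∀ {m : ι → ℕ}
    (c : ∀ i, Fin (m i + 1) → ZMod 3), LinearMap.det (blockOp c) = 1 →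
    IsEmpty ι ∨ Piece (blockOp c) := by
  intro n
  induction n using Nat.strongRecOn with
  | ind n ih =>
    intro ι _ hn m c hd
    classical
    rcases isEmpty_or_nonempty ι with h0 | ⟨⟨i⟩⟩
    · exact Or.inl h0
    right
    have hn0 : 0 < n := hn ▸ Fintype.card_pos_iff.2 ⟨i⟩
    have hd1 := det_peel c i
    rw [hd] at hd1
    rcases three_ne_zero_cases (x := LinearMap.det (comp (c i))) (fun h => by simp [h] at hd1) with h | h
    · rw [h, one_mul] at hd1
      have h2 := piece_single (c i) h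
      rcases ih (Fintype.card {j // j ≠ i}) (by simp [hn]; omega) rfl
        (fun j => c j.1 : ∀ j : {j // j ≠ i}, Fin (restM m i j + 1) → ZMod 3) hd1.symm with h3 | h3
      · exact (piece_prod_empty h2 _).congr' (peel i) (peel_op c i)
      · exact (h2.prod h3).congr' (peel i) (peel_op c i)
    · obtain ⟨j, hj⟩ : ∃ j : {j // j ≠ i}, LinearMap.det (comp (c j.1)) ≠ 1 := by
        by_contra hall
        push Not at hall
        rw [h, det_blockOp_one (m := restM m i) (fun j => c j.1) hall, mul_one] at hd1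
        revert hd1; decide
      have hd2 := det_peel (m := restM m i) (fun j => c j.1) j
      rw [hd2] at hd1
      have hj2 : LinearMap.det (comp (c j.1)) = 2 :=
        (three_ne_zero_cases fun e => by simp [e] at hd1).resolve_left hj
      rw [h, hj2, ← mul_assoc, show (2 : ZMod 3) * 2 = 1 from rfl, one_mul] at hd1
      have h2 := piece_pair (c i) (c j.1) h hj2
      let E := ((peel (K := ZMod 3) (m := m) i).trans
        ((LinearEquiv.refl (ZMod 3) _).prodCongr (peel (m := restM m i) j))).trans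
          (LinearEquiv.prodAssoc (ZMod 3) _ _ _).symm
      rcases ih (Fintype.card {k : {k // k ≠ i} // k ≠ j}) (by simp [hn]; omega) rfl
        (fun k => c k.1.1 : ∀ k : {k : {k // k ≠ i} // k ≠ j}, Fin (restM (restM m i) j k + 1) → ZMod 3)
        hd1.symm with h3 | h3
      · exact (piece_prod_empty h2 _).congr' E fun _ => rfl
      · exact (h2.prod h3).congr' E fun _ => rfl

end Three

/-- Every element of `SL(V)` over `ZMod 2`, `dim V ≥ 3`, is a commutator. -/
theorem commD_two {n : ℕ} (hn : 3 ≤ n) (A : End (ZMod 2) (Fin n → ZMod 2)) (hA : LinearMap.det A = 1) :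
    CommD A 1 1 := by
  obtain ⟨k, m, c, e, he⟩ := exists_comp_decomp A
  have he' : ∀ x, e (A x) = blockOp c (e x) := fun x => funext fun i => he x i
  have hd : LinearMap.det (blockOp c) = 1 := by
    rw [show blockOp c = e.conj A from LinearMap.ext fun x => by simp [LinearEquiv.conj_apply, he'],
      LinearEquiv.conj_apply, LinearMap.comp_assoc, LinearMap.det_conj, hA]
  refine (family_two k (Fintype.card_fin k) c (det_ne_zero_conj (hd ▸ one_ne_zero)) ?_).congr' e he'
  intro hk i hJ
  subst hk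
  have hdim := e.finrank_eq
  rw [Module.finrank_fin_fun, Module.finrank_pi_fintype, Fin.sum_univ_one, Module.finrank_fin_fun] at hdim
  obtain rfl : i = 0 := Subsingleton.elim _ _
  have := hJ.1
  omega

/-- Every element of `SL(V)` over `ZMod 3`, `dim V ≥ 3`, is a commutator. -/
theorem commD_three {n : ℕ} (hn : 3 ≤ n) (A : End (ZMod 3) (Fin n → ZMod 3)) (hA : LinearMap.det A = 1) :
    CommD A 1 1 := by
  obtain ⟨k, m, c, e, he⟩ := exists_comp_decomp A
  have he' : ∀ x, e (A x) = blockOp c (e x) := fun x => funext fun i => he x i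
  have hd : LinearMap.det (blockOp c) = 1 := by
    rw [show blockOp c = e.conj A from LinearMap.ext fun x => by simp [LinearEquiv.conj_apply, he'],
      LinearEquiv.conj_apply, LinearMap.comp_assoc, LinearMap.det_conj, hA]
  rcases family_three k (Fintype.card_fin k) c hd with h | h
  · exact absurd e.finrank_eq (by rw [Module.finrank_fin_fun, Module.finrank_zero_of_subsingleton]; omega)
  · exact (h 1 1 one_ne_zero one_ne_zero (Or.inr (Or.inr (by rw [← e.finrank_eq]; simpa using hn)))).congr'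
      e he'

end CfsgLib.SLComm
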